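import Mathlib
import Cfsg.Prelude.Def_JordanBlocks

set_option autoImplicit false

open Matrix

namespace Cfsg.Agent.Helper12

theorem jo_sub_one_apply {F : Type*} [Field F] (n : ℕ) (a b : Fin n) :
    (Cfsg.jordanBlock n F - 1) a b = if (a : ℕ) = (b : ℕ) + 1 then 1 else 0 := by
  rw [Matrix.sub_apply, Matrix.one_apply]
  simp only [Cfsg.jordanBlock, Matrix.of_apply]
  by_cases h : a = b
  · subst h
    simp
  · have h' : (a : ℕ) ≠ (b : ℕ) := fun e => h (Fin.ext e)
    simp [h, h']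

theorem jo_pow_apply {F : Type*} [Field F] (n k : ℕ) (a b : Fin n) :
    ((Cfsg.jordanBlock n F - 1) ^ k) a b = if (a : ℕ) = (b : ℕ) + k then 1 else 0 := by
  induction k generalizing a b with
  | zero =>
    rw [pow_zero, Matrix.one_apply]
    simp [Fin.ext_iff]
  | succ k ih =>
    rw [pow_succ, Matrix.mul_apply]
    simp only [ih, jo_sub_one_apply]
    by_cases h : (b : ℕ) + 1 < n
    · rw [Finset.sum_eq_single (⟨(b : ℕ) + 1, h⟩ : Fin n)]
      · have e : (b : ℕ) + 1 + k = (b : ℕ) + (k + 1) := by omega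
        simp only [e, if_true, mul_one]
      · intro c _ hc
        have hc' : (c : ℕ) ≠ (b : ℕ) + 1 := fun e => hc (Fin.ext e)
        simp [hc']
      · intro hc
        exact absurd (Finset.mem_univ _) hc
    · rw [Finset.sum_eq_zero]
      · have ha : (a : ℕ) ≠ (b : ℕ) + (k + 1) := by
          have := a.isLt
          omega
        simp [ha]
      · intro c _
        have hc' : (c : ℕ) ≠ (b : ℕ) + 1 := by
          have := c.isLt
          omega
        simp [hc']

theorem jo_nat (n k a b : ℕ) (ha : a < n) (hb : b < n) :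
    a = b + k ↔ (a = (b + k) % n ∧ k ≤ a) := by
  constructor
  · intro h
    subst h
    exact ⟨(Nat.mod_eq_of_lt ha).symm, Nat.le_add_left _ _⟩
  · rintro ⟨h1, h2⟩
    by_cases hlt : b + k < n
    · rw [Nat.mod_eq_of_lt hlt] at h1
      exact h1
    · exfalso
      rw [Nat.mod_eq_sub_mod (by omega), Nat.mod_eq_of_lt (by omega)] at h1
      omega

theorem jo_count (n k : ℕ) :
    (Finset.univ.filter (fun a : Fin n => k ≤ (a : ℕ))).card = n - k := by
  have h1 : (Finset.univ.filter (fun a : Fin n => (a : ℕ) < k)).card = min n k :=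
    Fin.card_filter_val_lt
  have h2 := Finset.card_filter_add_card_filter_not (s := (Finset.univ : Finset (Fin n)))
    (fun a : Fin n => (a : ℕ) < k)
  have h3 : (Finset.univ.filter (fun a : Fin n => ¬ (a : ℕ) < k))
      = Finset.univ.filter (fun a : Fin n => k ≤ (a : ℕ)) :=
    Finset.filter_congr (fun a _ => not_lt)
  rw [h3, h1, Finset.card_univ, Fintype.card_fin] at h2
  omega

/-- blockwise cyclic shift by `k` -/
def joShift {t : ℕ} (d : Fin t → ℕ) (k : ℕ) (x : (i : Fin t) × Fin (d i)) :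
    (i : Fin t) × Fin (d i) :=
  ⟨x.1, ⟨((x.2 : ℕ) + k) % d x.1, Nat.mod_lt _ (lt_of_le_of_lt (Nat.zero_le _) x.2.isLt)⟩⟩

theorem joShift_injective {t : ℕ} (d : Fin t → ℕ) (k : ℕ) :
    Function.Injective (joShift d k) := by
  rintro ⟨i, a⟩ ⟨j, b⟩ h
  have hij : i = j := congrArg Sigma.fst h
  subst hij
  have h2 : ((a : ℕ) + k) % d i = ((b : ℕ) + k) % d i :=
    congrArg (fun x : (i : Fin t) × Fin (d i) => (x.2 : ℕ)) h
  have h3 : (a : ℕ) % d i = (b : ℕ) % d i := Nat.ModEq.add_right_cancel' k h2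
  rw [Nat.mod_eq_of_lt a.isLt, Nat.mod_eq_of_lt b.isLt] at h3
  exact congrArg (Sigma.mk i) (Fin.ext h3)

noncomputable def joTau {t : ℕ} (d : Fin t → ℕ) (k : ℕ) :
    ((i : Fin t) × Fin (d i)) ≃ ((i : Fin t) × Fin (d i)) :=
  Equiv.ofBijective (joShift d k) (Finite.injective_iff_bijective.mp (joShift_injective d k))

def joW {t : ℕ} (d : Fin t → ℕ) (k : ℕ) (F : Type*) [Field F] :
    ((i : Fin t) × Fin (d i)) → F :=
  fun x => if k ≤ (x.2 : ℕ) then 1 else 0

theorem jo_entry {F : Type*} [Field F] {t : ℕ} (d : Fin t → ℕ) (k : ℕ)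
    (x y : (i : Fin t) × Fin (d i)) :
    ((Matrix.diagonal (joW d k F)).submatrix (Equiv.refl _) (joTau d k)) x y
      = if x = joShift d k y then (if k ≤ (x.2 : ℕ) then (1 : F) else 0) else 0 := by
  rw [Matrix.submatrix_apply, Matrix.diagonal_apply]
  rfl

theorem jo_eq {F : Type*} [Field F] {t : ℕ} (d : Fin t → ℕ) (k : ℕ) :
    (Cfsg.jordanTypeMatrix d F - 1) ^ k
      = (Matrix.diagonal (joW d k F)).submatrix (Equiv.refl _) (joTau d k) := by
  have h1 : Cfsg.jordanTypeMatrix d F - 1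
      = Matrix.blockDiagonal' ((fun i => Cfsg.jordanBlock (d i) F) - 1) := by
    rw [Matrix.blockDiagonal'_sub, Matrix.blockDiagonal'_one]
    rfl
  rw [h1, ← Matrix.blockDiagonal'_pow]
  ext x y
  obtain ⟨i, a⟩ := x
  obtain ⟨j, b⟩ := y
  rw [jo_entry]
  dsimp only
  by_cases hij : i = j
  · subst hij
    rw [Matrix.blockDiagonal'_apply_eq]
    show ((Cfsg.jordanBlock (d i) F - 1) ^ k) a b = _
    rw [jo_pow_apply]
    by_cases hab : (a : ℕ) = (b : ℕ) + k
    · have h1 := (jo_nat (d i) k a b a.isLt b.isLt).mp hab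
      have e : (⟨i, a⟩ : (i : Fin t) × Fin (d i)) = joShift d k ⟨i, b⟩ :=
        congrArg (Sigma.mk i) (Fin.ext h1.1)
      rw [if_pos hab, if_pos e, if_pos h1.2]
    · have hn : ¬ ((⟨i, a⟩ : (i : Fin t) × Fin (d i)) = joShift d k ⟨i, b⟩ ∧ k ≤ (a : ℕ)) := by
        rintro ⟨e, hk⟩
        have e2 : (a : ℕ) = ((b : ℕ) + k) % d i :=
          congrArg (fun x : (i : Fin t) × Fin (d i) => (x.2 : ℕ)) e
        exact hab ((jo_nat (d i) k a b a.isLt b.isLt).mpr ⟨e2, hk⟩)
      rw [if_neg hab]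
      by_cases e : (⟨i, a⟩ : (i : Fin t) × Fin (d i)) = joShift d k ⟨i, b⟩
      · rw [if_pos e, if_neg (fun hk => hn ⟨e, hk⟩)]
      · rw [if_neg e]
  · rw [Matrix.blockDiagonal'_apply_ne _ _ _ hij]
    have hne : (⟨i, a⟩ : (i : Fin t) × Fin (d i)) ≠ joShift d k ⟨j, b⟩ :=
      fun e => hij (congrArg Sigma.fst e)
    rw [if_neg hne]

theorem jordanType_rank {F : Type*} [Field F] {t : ℕ} (d : Fin t → ℕ) (k : ℕ) : ((Cfsg.jordanTypeMatrix d F - 1) ^ k).rank = ∑ i, (d i - k) := by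
  classical
  rw [jo_eq, Matrix.rank_submatrix, Matrix.rank_diagonal,
    Fintype.card_of_subtype (Finset.univ.filter (fun x : (i : Fin t) × Fin (d i) => k ≤ (x.2 : ℕ)))
      (fun x => by
        simp only [Finset.mem_filter, Finset.mem_univ, true_and, joW]
        split_ifs with h <;> simp [h]),
    Finset.card_filter, Fintype.sum_sigma]
  apply Finset.sum_congr rfl
  intro i _
  rw [← Finset.card_filter]
  exact jo_count (d i) k

end Cfsg.Agent.Helper12
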