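import Mathlib
import Cfsg.Agent.Helper11.AltRankGen

set_option autoImplicit false

open Matrix

namespace Cfsg.Agent.Helper12

theorem orth2_rank_even {F : Type*} [Field F] [CharP F 2] {n : ℕ} (Q : QuadraticForm F (Fin n → F)) (hQ : (QuadraticMap.polarBilin Q).Nondegenerate) (A : Matrix (Fin n) (Fin n) F) (hA : ∀ v, Q (A *ᵥ v) = Q v) (k : ℕ) (hk : Even k) : Even ((A - 1) ^ k).rank := by
  obtain ⟨P, hPdef⟩ : ∃ P : Matrix (Fin n) (Fin n) F,
      P = LinearMap.BilinForm.toMatrix' (QuadraticMap.polarBilin Q) := ⟨_, rfl⟩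
  have hPB : ∀ v w : Fin n → F, v ⬝ᵥ P *ᵥ w = QuadraticMap.polarBilin Q v w := by
    intro v w
    rw [hPdef, ← Matrix.toBilin'_apply', Matrix.toBilin'_toMatrix']
  have halt : ∀ v : Fin n → F, v ⬝ᵥ P *ᵥ v = 0 := by
    intro v
    rw [hPB]
    show Q (v + v) - Q v - Q v = 0
    have h1 : v + v = 0 := funext fun i => CharTwo.add_self_eq_zero (v i)
    rw [h1, map_zero, zero_sub, ← neg_add', CharTwo.add_self_eq_zero, neg_zero]
  have hPdet : P.det ≠ 0 := by
    rw [hPdef]
    exact Matrix.nondegenerate_iff_det_ne_zero.1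
      (LinearMap.BilinForm.nondegenerate_toMatrix'_iff.2 hQ)
  have hAP : Aᵀ * P * A = P := by
    have hcomp : LinearMap.BilinForm.comp (QuadraticMap.polarBilin Q) (Matrix.toLin' A)
        (Matrix.toLin' A) = QuadraticMap.polarBilin Q := by
      refine LinearMap.ext fun u => LinearMap.ext fun w => ?_
      show Q (Matrix.toLin' A u + Matrix.toLin' A w) - Q (Matrix.toLin' A u)
          - Q (Matrix.toLin' A w) = Q (u + w) - Q u - Q w
      rw [← map_add, Matrix.toLin'_apply, Matrix.toLin'_apply, Matrix.toLin'_apply, hA, hA, hA]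
    have hP' := congrArg LinearMap.BilinForm.toMatrix' hcomp
    rw [LinearMap.BilinForm.toMatrix'_comp, LinearMap.toMatrix'_toLin'] at hP'
    rw [hPdef]
    exact hP'
  exact Helper11.alt_rank_even_gen A P halt hPdet hAP k hk

end Cfsg.Agent.Helper12
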