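import Mathlib
import Cfsg.Prelude.Def_JordanBlocks
import Cfsg.Agent.Helper17.ShiftRank
import Cfsg.Agent.Helper21.BlockRank

set_option autoImplicit false

open Matrix

namespace Cfsg.Agent.Helper12

/-- antidiagonal permutation matrix -/
def syR (m : ℕ) (F : Type*) [Field F] : Matrix (Fin m) (Fin m) F :=
  Matrix.of fun a b => if b = Fin.rev a then 1 else 0

theorem syR_mul {F : Type*} [Field F] (m : ℕ) (X : Matrix (Fin m) (Fin m) F) (a b : Fin m) :
    (syR m F * X) a b = X (Fin.rev a) b := by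
  simp [syR, Matrix.mul_apply, ite_mul, Finset.sum_ite_eq']

theorem syR_transpose {F : Type*} [Field F] (m : ℕ) : (syR m F)ᵀ = syR m F := by
  ext a b
  simp only [Matrix.transpose_apply, syR, Matrix.of_apply]
  have h : a = Fin.rev b ↔ b = Fin.rev a := by
    constructor
    · intro h
      rw [h, Fin.rev_rev]
    · intro h
      rw [h, Fin.rev_rev]
  exact if_congr h rfl rfl

theorem syR_mul' {F : Type*} [Field F] (m : ℕ) (X : Matrix (Fin m) (Fin m) F) (a b : Fin m) :
    (X * syR m F) a b = X a (Fin.rev b) := by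
  have h : X * syR m F = (syR m F * Xᵀ)ᵀ := by
    rw [Matrix.transpose_mul, Matrix.transpose_transpose, syR_transpose]
  rw [h, Matrix.transpose_apply, syR_mul, Matrix.transpose_apply]

theorem syR_sq {F : Type*} [Field F] (m : ℕ) : syR m F * syR m F = 1 := by
  ext a b
  rw [syR_mul, Matrix.one_apply]
  simp only [syR, Matrix.of_apply, Fin.rev_rev]
  exact if_congr eq_comm rfl rfl

theorem syS_R {F : Type*} [Field F] (m : ℕ) :
    (Cfsg.jordanBlock m F - 1)ᵀ * syR m F = syR m F * (Cfsg.jordanBlock m F - 1) := by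
  ext a b
  rw [syR_mul', syR_mul, Matrix.transpose_apply, Helper17.jb_sub_one_apply,
    Helper17.jb_sub_one_apply]
  refine if_congr ?_ rfl rfl
  rw [Fin.val_rev, Fin.val_rev]
  have := a.isLt
  have := b.isLt
  omega

theorem sy_fromBlocks_pow {F : Type*} [Field F] {m : ℕ} (X Y : Matrix (Fin m) (Fin m) F)
    (k : ℕ) : (fromBlocks X 0 0 Y) ^ k = fromBlocks (X ^ k) 0 0 (Y ^ k) := by
  induction k with
  | zero => simp [Matrix.fromBlocks_one]
  | succ k ih =>
    rw [pow_succ, ih, Matrix.fromBlocks_multiply, pow_succ, pow_succ]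
    simp

theorem even_block_form_alt {F : Type*} [Field F] (m : ℕ) : ∃ A M : Matrix (Fin m ⊕ Fin m) (Fin m ⊕ Fin m) F, (∀ v, v ⬝ᵥ M *ᵥ v = 0) ∧ M.det ≠ 0 ∧ Aᵀ * M * A = M ∧ ∀ k, ((A - 1) ^ k).rank = 2 * m - k := by
  obtain ⟨S, hSdef⟩ : ∃ S : Matrix (Fin m) (Fin m) F, S = Cfsg.jordanBlock m F - 1 := ⟨_, rfl⟩
  obtain ⟨R, hRdef⟩ : ∃ R : Matrix (Fin m) (Fin m) F, R = syR m F := ⟨_, rfl⟩
  have hrank : ∀ k, (S ^ k).rank = m - k := by
    intro k
    rw [hSdef]
    exact Helper17.jb_sub_one_pow_rank m k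
  have hSR : Sᵀ * R = R * S := by
    rw [hSdef, hRdef]
    exact syS_R m
  have hRT : Rᵀ = R := by
    rw [hRdef]
    exact syR_transpose m
  have hRR : R * R = 1 := by
    rw [hRdef]
    exact syR_sq m
  clear hSdef hRdef
  refine ⟨fromBlocks (1 : Matrix (Fin m) (Fin m) F) S 1 (1 + S), fromBlocks (0 : Matrix (Fin m) (Fin m) F) R (-R) 0, ?_, ?_, ?_, ?_⟩
  · intro v
    have e1 : (fromBlocks (0 : Matrix (Fin m) (Fin m) F) R (-R) 0 *ᵥ v) ∘ Sum.inl = R *ᵥ (v ∘ Sum.inr) := by
      rw [Matrix.fromBlocks_mulVec, Sum.elim_comp_inl, Matrix.zero_mulVec, zero_add]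
    have e2 : (fromBlocks (0 : Matrix (Fin m) (Fin m) F) R (-R) 0 *ᵥ v) ∘ Sum.inr = -(R *ᵥ (v ∘ Sum.inl)) := by
      rw [Matrix.fromBlocks_mulVec, Sum.elim_comp_inr, Matrix.zero_mulVec, add_zero,
        Matrix.neg_mulVec]
    have e3 : ∀ w : Fin m ⊕ Fin m → F,
        v ⬝ᵥ w = (v ∘ Sum.inl) ⬝ᵥ (w ∘ Sum.inl) + (v ∘ Sum.inr) ⬝ᵥ (w ∘ Sum.inr) := by
      intro w
      simp only [dotProduct, Fintype.sum_sum_type, Function.comp_apply]
    rw [e3, e1, e2, dotProduct_neg, Matrix.dotProduct_mulVec (v ∘ Sum.inr),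
      ← Matrix.mulVec_transpose, hRT, dotProduct_comm (R *ᵥ (v ∘ Sum.inr))]
    exact add_neg_cancel _
  · have hMM : fromBlocks (0 : Matrix (Fin m) (Fin m) F) R (-R) 0 * (-(fromBlocks (0 : Matrix (Fin m) (Fin m) F) R (-R) 0))
        = (1 : Matrix (Fin m ⊕ Fin m) (Fin m ⊕ Fin m) F) := by
      rw [Matrix.fromBlocks_neg, Matrix.fromBlocks_multiply]
      simp [hRR, Matrix.fromBlocks_one]
    exact (Matrix.isUnit_det_of_right_inverse hMM).ne_zero
  · rw [Matrix.fromBlocks_transpose, Matrix.fromBlocks_multiply, Matrix.fromBlocks_multiply]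
    simp only [Matrix.transpose_one, Matrix.transpose_add, mul_zero, zero_add, add_zero, one_mul,
      mul_one, mul_neg, neg_mul, add_mul, mul_add, hSR]
    congr 1 <;> abel
  · intro k
    have hN : fromBlocks (1 : Matrix (Fin m) (Fin m) F) S 1 (1 + S) - 1 = fromBlocks (0 : Matrix (Fin m) (Fin m) F) S 1 S := by
      rw [sub_eq_add_neg, ← Matrix.fromBlocks_one, Matrix.fromBlocks_neg, Matrix.fromBlocks_add]
      simp
    have hdetA : (fromBlocks (1 : Matrix (Fin m) (Fin m) F) S 1 (1 + S)).det = 1 := by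
      rw [Matrix.det_fromBlocks_one₁₁]
      simp
    have hNN : fromBlocks (0 : Matrix (Fin m) (Fin m) F) S 1 S * fromBlocks (0 : Matrix (Fin m) (Fin m) F) S 1 S
        = fromBlocks S 0 0 S * fromBlocks (1 : Matrix (Fin m) (Fin m) F) S 1 (1 + S) := by
      rw [Matrix.fromBlocks_multiply, Matrix.fromBlocks_multiply]
      simp [mul_add]
    have hcomm : Commute (fromBlocks S 0 0 S) (fromBlocks (1 : Matrix (Fin m) (Fin m) F) S 1 (1 + S)) := by
      show fromBlocks S 0 0 S * fromBlocks (1 : Matrix (Fin m) (Fin m) F) S 1 (1 + S)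
        = fromBlocks (1 : Matrix (Fin m) (Fin m) F) S 1 (1 + S) * fromBlocks S 0 0 S
      rw [Matrix.fromBlocks_multiply, Matrix.fromBlocks_multiply]
      simp [mul_add, add_mul]
    rw [hN]
    have hpow2 : ∀ i, (fromBlocks (0 : Matrix (Fin m) (Fin m) F) S 1 S) ^ (2 * i)
        = fromBlocks (S ^ i) 0 0 (S ^ i) * (fromBlocks (1 : Matrix (Fin m) (Fin m) F) S 1 (1 + S)) ^ i := by
      intro i
      rw [pow_mul, pow_two, hNN, hcomm.mul_pow, sy_fromBlocks_pow]
    have hAi : ∀ i, IsUnit ((fromBlocks (1 : Matrix (Fin m) (Fin m) F) S 1 (1 + S)) ^ i).det := by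
      intro i
      rw [Matrix.det_pow, hdetA, one_pow]
      exact isUnit_one
    rcases Nat.even_or_odd' k with ⟨i, rfl | rfl⟩
    · rw [hpow2, Matrix.rank_mul_eq_left_of_isUnit_det _ _ (hAi i),
        Helper21.br21_rank_fromBlocks, hrank]
      omega
    · rw [pow_succ, hpow2]
      have hT : fromBlocks (S ^ i) 0 0 (S ^ i) * (fromBlocks (1 : Matrix (Fin m) (Fin m) F) S 1 (1 + S)) ^ i
            * fromBlocks (0 : Matrix (Fin m) (Fin m) F) S 1 S
          = (fromBlocks (1 : Matrix (Fin m) (Fin m) F) S 1 (1 + S)) ^ i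
            * (fromBlocks (S ^ (i + 1)) 0 0 (S ^ i) * fromBlocks (0 : Matrix (Fin m) (Fin m) F) 1 1 S) := by
        have hc : Commute (fromBlocks (S ^ i) 0 0 (S ^ i)) ((fromBlocks (1 : Matrix (Fin m) (Fin m) F) S 1 (1 + S)) ^ i) := by
          rw [← sy_fromBlocks_pow]
          exact hcomm.pow_pow i i
        rw [hc.eq, mul_assoc]
        congr 1
        rw [Matrix.fromBlocks_multiply, Matrix.fromBlocks_multiply]
        simp [pow_succ]
      rw [hT, Matrix.rank_mul_eq_right_of_isUnit_det _ _ (hAi i)]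
      have hTu : IsUnit (fromBlocks (0 : Matrix (Fin m) (Fin m) F) 1 1 S).det := by
        have h1 : fromBlocks (0 : Matrix (Fin m) (Fin m) F) 1 1 S * fromBlocks (-S) 1 1 (0 : Matrix (Fin m) (Fin m) F)
            = 1 := by
          rw [Matrix.fromBlocks_multiply]
          simp [Matrix.fromBlocks_one]
        exact Matrix.isUnit_det_of_right_inverse h1
      rw [Matrix.rank_mul_eq_left_of_isUnit_det _ _ hTu, Helper21.br21_rank_fromBlocks, hrank,
        hrank]
      omega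

end Cfsg.Agent.Helper12
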