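import Cfsg.Agent.Helper12.KCore
import Cfsg.Agent.Helper12.KAnal
import Cfsg.Agent.Helper12.SecEngel

/-!
For `p ≥ 5` the lower K-infinity functor controls transfer in every section.
-/

set_option autoImplicit false

namespace Cfsg.Agent.Helper12

universe u

section KEngel

variable {p : ℕ} [Fact p.Prime]

/-- If the lower K-infinity subgroup of a Sylow `p`-subgroup is not normal, some element of the
Sylow subgroup outside `O_p` is `4`-Engel on every chief factor inside `O_p`. -/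
theorem kInf_engel {Y : Type u} [Group Y] [Finite Y] (hp : 5 ≤ p) (S : Sylow p Y)
    (hn : ¬ (Cfsg.inducedFunctor Cfsg.kInfLower (S : Subgroup Y)).Normal) :
    ∃ g : Y, g ∈ (S : Subgroup Y) ∧ g ∉ Cfsg.pCore p Y ∧
      ∀ U V : Subgroup Y, Cfsg.IsChiefFactor U V → U ≤ Cfsg.pCore p Y →
        Cfsg.iterCommutator U (Subgroup.zpowers g) (p - 1) ≤ V := by
  have hQp : IsPGroup p (Cfsg.pCore p Y) := Cfsg.Agent.Helper9.pCore_isPGroup p
  have hQn : (Cfsg.pCore p Y).Normal := inferInstance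
  have hQS : Cfsg.pCore p Y ≤ (S : Subgroup Y) := hQp.le_sylow_of_normal S
  obtain ⟨A, hAn, hAQ, hA2, hQA, hCA⟩ := exists_critical (Cfsg.pCore p Y) hQn hQp
  have hne : ∃ n : ℕ, ¬ (Cfsg.kSeqEven ↥(S : Subgroup Y) n ≤
        (Cfsg.pCore p Y).subgroupOf (S : Subgroup Y) ∧
      Cfsg.kSeqOdd ↥(S : Subgroup Y) (n + 1) ≤ (Cfsg.pCore p Y).subgroupOf (S : Subgroup Y)) := by
    by_contra hcon
    push Not at hcon
    apply hn
    have hcon' : ∀ n : ℕ, Cfsg.kSeqEven ↥(S : Subgroup Y) n ≤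
        (Cfsg.pCore p Y).subgroupOf (S : Subgroup Y) ∧
      Cfsg.kSeqOdd ↥(S : Subgroup Y) (n + 1) ≤ (Cfsg.pCore p Y).subgroupOf (S : Subgroup Y) :=
      hcon
    rw [inducedFunctor_kInfLower_eq hQS hcon']
    have hconj := isConjugacyFunctor_induced (G := Y) (kInfLower_charP.{u} p)
    refine ⟨fun x hx g => ?_⟩
    have h3 := (hconj (Cfsg.pCore p Y) hQp).2.2 g
    rw [map_conj_eq_of_normal hQn g] at h3
    rw [h3]
    exact Subgroup.mem_map_of_mem _ hx
  have hinj : Function.Injective (S : Subgroup Y).subtype := Subgroup.subtype_injective _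
  have hmapA : (A.subgroupOf (S : Subgroup Y)).map (S : Subgroup Y).subtype = A :=
    Subgroup.map_subgroupOf_eq_of_le (hAQ.trans hQS)
  have hmapQ : ((Cfsg.pCore p Y).subgroupOf (S : Subgroup Y)).map (S : Subgroup Y).subtype =
      Cfsg.pCore p Y := Subgroup.map_subgroupOf_eq_of_le hQS
  have hA'n : (A.subgroupOf (S : Subgroup Y)).Normal := by
    have := hAn
    infer_instance
  have hA'2 : ⁅⁅A.subgroupOf (S : Subgroup Y), A.subgroupOf (S : Subgroup Y)⁆,
      A.subgroupOf (S : Subgroup Y)⁆ = ⊥ := by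
    apply (Subgroup.map_eq_bot_iff_of_injective _ hinj).1
    rw [Subgroup.map_commutator, Subgroup.map_commutator, hmapA]
    exact hA2
  have hQ'A' : ⁅(Cfsg.pCore p Y).subgroupOf (S : Subgroup Y), A.subgroupOf (S : Subgroup Y)⁆ ≤
      A.subgroupOf (S : Subgroup Y) ⊓ Subgroup.centralizer
        ((A.subgroupOf (S : Subgroup Y) : Subgroup ↥(S : Subgroup Y)) : Set ↥(S : Subgroup Y)) := by
    rw [← Subgroup.map_le_map_iff_of_injective hinj, Subgroup.map_commutator,
      map_inf_centralizer _ hinj, hmapA, hmapQ]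
    exact hQA
  obtain ⟨B, hBQ, hB3, hB2⟩ := exists_cubic_of_kSeq (A.subgroupOf (S : Subgroup Y))
    ((Cfsg.pCore p Y).subgroupOf (S : Subgroup Y)) hA'n hA'2 hQ'A' hne
  obtain ⟨g', hg'B, hg'Q⟩ := SetLike.not_le_iff_exists.1 hBQ
  refine ⟨(g' : Y), g'.2, fun h => hg'Q (Subgroup.mem_subgroupOf.2 h), ?_⟩
  have hΓ : Subgroup.zpowers (g' : Y) ≤ B.map (S : Subgroup Y).subtype := by
    rw [Subgroup.zpowers_le]
    exact Subgroup.mem_map_of_mem (S : Subgroup Y).subtype hg'B
  have hA3 : Cfsg.iterCommutator A (Subgroup.zpowers (g' : Y)) 3 = ⊥ := by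
    have h1 := iterCommutator_mono (le_refl A) hΓ 3
    have h2 : Cfsg.iterCommutator A (B.map (S : Subgroup Y).subtype) 3 =
        (Cfsg.iterCommutator (A.subgroupOf (S : Subgroup Y)) B 3).map
          (S : Subgroup Y).subtype := by
      rw [iterCommutator_map, hmapA]
    have h3 : Cfsg.iterCommutator (A.subgroupOf (S : Subgroup Y)) B 3 = ⊥ := hB3
    rw [h2, h3, Subgroup.map_bot] at h1
    exact le_bot_iff.1 h1
  have hZ2 : Cfsg.iterCommutator (A ⊓ Subgroup.centralizer (A : Set Y))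
      (Subgroup.zpowers (g' : Y)) 2 = ⊥ := by
    have h1 := iterCommutator_mono (le_refl (A ⊓ Subgroup.centralizer (A : Set Y))) hΓ 2
    have h2 : Cfsg.iterCommutator (A ⊓ Subgroup.centralizer (A : Set Y))
        (B.map (S : Subgroup Y).subtype) 2 =
        (Cfsg.iterCommutator (A.subgroupOf (S : Subgroup Y) ⊓ Subgroup.centralizer
          ((A.subgroupOf (S : Subgroup Y) : Subgroup ↥(S : Subgroup Y)) :
            Set ↥(S : Subgroup Y))) B 2).map (S : Subgroup Y).subtype := by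
      rw [iterCommutator_map, map_inf_centralizer _ hinj, hmapA]
    have h3 : Cfsg.iterCommutator (A.subgroupOf (S : Subgroup Y) ⊓ Subgroup.centralizer
          ((A.subgroupOf (S : Subgroup Y) : Subgroup ↥(S : Subgroup Y)) :
            Set ↥(S : Subgroup Y))) B 2 = ⊥ := hB2
    rw [h2, h3, Subgroup.map_bot] at h1
    exact le_bot_iff.1 h1
  have h4 := engel4_chief (Cfsg.pCore p Y) A (Subgroup.zpowers (g' : Y)) hQn hQp hAn hAQ hQA hCA
    hA3 hZ2
  intro U V hch hU
  have h5 := h4 U V hch hU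
  obtain ⟨k, hk⟩ : ∃ k, p - 1 = 4 + k := ⟨p - 5, by omega⟩
  rw [hk, iterCommutator_add]
  exact (iterCommutator_mono h5 le_rfl k).trans (iterCommutator_le_of_normal hch.2.2.1 _ k)

/-- For `p ≥ 5`, the lower K-infinity functor controls transfer in every section. -/
theorem kInf_tCtl_sections (hp : 5 ≤ p) {G : Type u} [Group G] [Finite G] :
    ∀ (Z : Type u) [Group Z] [Finite Z], IsSectionOf Z G →
      tCtl p ({Cfsg.kInfLower} : Set (∀ (Q : Type u) [Group Q], Subgroup Q)) Z := by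
  have hW : Cfsg.IsCharPFunctor.{u} p Cfsg.kInfLower := kInfLower_charP p
  have h𝓦 : ∀ W' ∈ ({Cfsg.kInfLower} : Set (∀ (Q : Type u) [Group Q], Subgroup Q)),
      Cfsg.IsCharPFunctor.{u} p W' := by
    rintro _ rfl; exact hW
  have hsec : ∀ (K R : Subgroup G) [(R.subgroupOf K).Normal],
      IsSectionOf (↥K ⧸ R.subgroupOf K) G :=
    fun K R _ => ⟨K, QuotientGroup.mk' _, QuotientGroup.mk'_surjective _⟩
  refine tCtl_sections_of_hloc h𝓦 (G := G) ?_
  intro K R hR hsm hcen
  refine tCtl_of_engel hW ?_ ?_ hcen (fun T hn => kInf_engel hp T hn)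
  · intro X hX
    refine hsm ↥X (isSectionOf_subgroup (hsec K R) X) ?_
    have h1 : Nat.card ↥X ≠ Nat.card (↥K ⧸ R.subgroupOf K) :=
      fun h => hX (Subgroup.eq_top_of_card_eq X h)
    have h2 : Nat.card ↥X ≤ Nat.card (↥K ⧸ R.subgroupOf K) := Subgroup.card_le_card_group X
    omega
  · intro hQ
    exact hsm _ (isSectionOf_quotient (hsec K R) _) (card_quotient_lt _ hQ)

end KEngel

end Cfsg.Agent.Helper12
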