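import Cfsg.Agent.Helper12.KStable
import Cfsg.Agent.Helper12.Syl
import Cfsg.Agent.Helper1.FunNpc
import Cfsg.Agent.Lead.Frobenius

/-!
The normalizer of the lower K-infinity subgroup has a normal `p`-complement when its
`p'`-elements centralize the K-infinity subgroup.
-/

set_option autoImplicit false

namespace Cfsg.Agent.Helper12

universe u

open scoped commutatorElement

section KNpc

variable {p : ℕ} [Fact p.Prime]

/-- A finite `p`-group has a normal abelian self-centralizing subgroup. -/
theorem exists_normal_abelian_self_centralizing (P : Type*) [Group P] [Finite P]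
    (hP : IsPGroup p P) :
    ∃ M : Subgroup P, M.Normal ∧ M ≤ Subgroup.centralizer (M : Set P) ∧
      Subgroup.centralizer (M : Set P) ≤ M := by
  obtain ⟨M, ⟨hMn, hMab⟩, hMmax⟩ := Set.exists_max_image
    {M : Subgroup P | M.Normal ∧ M ≤ Subgroup.centralizer (M : Set P)}
    (fun M => Nat.card ↥M) (Set.toFinite _) ⟨⊥, Subgroup.normal_bot, bot_le⟩
  refine ⟨M, hMn, hMab, ?_⟩
  have hDn : (Subgroup.centralizer (M : Set P)).Normal := by
    have := hMn
    infer_instance
  have hstep : ∀ k, Cfsg.iterCommutator (Subgroup.centralizer (M : Set P)) ⊤ (k + 1) ≤ M →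
      Cfsg.iterCommutator (Subgroup.centralizer (M : Set P)) ⊤ k ≤ M := by
    intro k hk x hx
    have hxD := iterCommutator_le_of_normal hDn ⊤ k hx
    have hxM : ∀ t : P, ⁅x, t⁆ ∈ M := fun t =>
      hk (Subgroup.commutator_mem_commutator hx (Subgroup.mem_top t))
    have hxx : Subgroup.zpowers x ≤
        Subgroup.centralizer ((Subgroup.zpowers x : Subgroup P) : Set P) := by
      rw [Subgroup.zpowers_le, Subgroup.mem_centralizer_iff]
      intro h hh
      obtain ⟨k, rfl⟩ := Subgroup.mem_zpowers_iff.1 hh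
      exact ((Commute.refl x).zpow_left k).eq
    have hxM' : Subgroup.zpowers x ≤ Subgroup.centralizer (M : Set P) := by
      rw [Subgroup.zpowers_le]; exact hxD
    have hM'ab : M ⊔ Subgroup.zpowers x ≤
        Subgroup.centralizer ((M ⊔ Subgroup.zpowers x : Subgroup P) : Set P) := by
      refine sup_le ?_ ?_
      · rw [Subgroup.le_centralizer_iff]; exact sup_le hMab hxM'
      · rw [Subgroup.le_centralizer_iff]
        exact sup_le (Subgroup.le_centralizer_iff.1 hxM') hxx
    have hM'n : (M ⊔ Subgroup.zpowers x).Normal := by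
      rw [← Subgroup.normalizer_eq_top_iff, eq_top_iff]
      intro g _
      apply mem_normalizer_of_conj_mem
      intro f hf
      have h1 : (M ⊔ Subgroup.zpowers x).map (MulAut.conj g).toMonoidHom ≤
          M ⊔ Subgroup.zpowers x := by
        rw [Subgroup.map_sup, map_conj_eq_of_normal hMn, MonoidHom.map_zpowers]
        refine sup_le le_sup_left ?_
        rw [Subgroup.zpowers_le]
        have e : (MulAut.conj g).toMonoidHom x = (⁅x, g⁆)⁻¹ * x := by
          simp only [commutatorElement_def, MulEquiv.coe_toMonoidHom, MulAut.conj_apply]; group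
        rw [e]
        exact Subgroup.mul_mem _ (Subgroup.mem_sup_left (M.inv_mem (hxM g)))
          (Subgroup.mem_sup_right (Subgroup.mem_zpowers x))
      exact h1 ⟨f, hf, rfl⟩
    have hcard := hMmax (M ⊔ Subgroup.zpowers x) ⟨hM'n, hM'ab⟩
    have heq : M = M ⊔ Subgroup.zpowers x := Subgroup.eq_of_le_of_card_ge le_sup_left hcard
    rw [heq]
    exact Subgroup.mem_sup_right (Subgroup.mem_zpowers x)
  obtain ⟨n, hn⟩ := iterCommutator_self_eq_bot (T := (⊤ : Subgroup P)) (hP.to_subgroup ⊤)
  have h0 : Cfsg.iterCommutator (Subgroup.centralizer (M : Set P)) ⊤ n ≤ M := by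
    have := iterCommutator_mono (le_top : Subgroup.centralizer (M : Set P) ≤ ⊤)
      (le_refl (⊤ : Subgroup P)) n
    rw [hn] at this
    exact this.trans bot_le
  have hall : ∀ n, Cfsg.iterCommutator (Subgroup.centralizer (M : Set P)) ⊤ n ≤ M →
      Subgroup.centralizer (M : Set P) ≤ M := by
    intro n
    induction n with
    | zero => exact fun h => h
    | succ n ih => exact fun h => ih (hstep n h)
  exact hall n h0

/-- The lower K-infinity subgroup of a finite `p`-group contains its centralizer. -/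
theorem centralizer_kInfLower_le (P : Type u) [Group P] [Finite P] (hP : IsPGroup p P) :
    Subgroup.centralizer ((Cfsg.kInfLower P : Subgroup P) : Set P) ≤ Cfsg.kInfLower P := by
  obtain ⟨M, hMn, hMab, hMc⟩ := exists_normal_abelian_self_centralizing P hP
  have hMK : M ≤ Cfsg.kInfLower P := by
    have := hMn
    have h1 : M ∈ Cfsg.kLowerStarFamily (Cfsg.kSeqOdd P 0) :=
      normal_abelian_lower M (Subgroup.le_centralizer_iff_isMulCommutative.1 hMab) _
    exact (le_sSup h1).trans (le_iSup (Cfsg.kSeqEven P) 0)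
  exact (Subgroup.centralizer_le (SetLike.coe_subset_coe.2 hMK)).trans (hMc.trans hMK)

/-- If every `p'`-element of `N_G(K)` centralizes `K`, the lower K-infinity subgroup of a Sylow
`p`-subgroup, then `N_G(K)` has a normal `p`-complement. -/
theorem npc_normalizer_kInf {G : Type u} [Group G] [Finite G] (S : Sylow p G)
    (h : ∀ g ∈ Subgroup.normalizer
        ((Cfsg.inducedFunctor Cfsg.kInfLower (S : Subgroup G) : Subgroup G) : Set G),
      (orderOf g).Coprime p → g ∈ Subgroup.centralizer
        ((Cfsg.inducedFunctor Cfsg.kInfLower (S : Subgroup G) : Subgroup G) : Set G)) :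
    Cfsg.HasNormalPComplement p ↥(Subgroup.normalizer
      ((Cfsg.inducedFunctor Cfsg.kInfLower (S : Subgroup G) : Subgroup G) : Set G)) := by
  obtain ⟨K, hK⟩ : ∃ K : Subgroup G, K = Cfsg.inducedFunctor Cfsg.kInfLower (S : Subgroup G) :=
    ⟨_, rfl⟩
  rw [← hK] at h ⊢
  have hKS : K ≤ (S : Subgroup G) := by
    rw [hK]; unfold Cfsg.inducedFunctor; exact Subgroup.map_subtype_le _
  have hCS : ∀ c ∈ (S : Subgroup G), c ∈ Subgroup.centralizer (K : Set G) → c ∈ K := by
    intro c hcS hcC
    have h1 : (⟨c, hcS⟩ : ↥(S : Subgroup G)) ∈ Subgroup.centralizer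
        ((Cfsg.kInfLower ↥(S : Subgroup G) : Subgroup ↥(S : Subgroup G)) :
          Set ↥(S : Subgroup G)) := by
      rw [Subgroup.mem_centralizer_iff]
      intro k hk
      apply Subtype.ext
      have hkK : (k : G) ∈ K := by
        rw [hK]; exact Subgroup.mem_map_of_mem (S : Subgroup G).subtype hk
      exact Subgroup.mem_centralizer_iff.1 hcC _ hkK
    have h2 := centralizer_kInfLower_le ↥(S : Subgroup G) S.isPGroup' h1
    rw [hK]
    exact ⟨⟨c, hcS⟩, h2, rfl⟩
  have hSN : (S : Subgroup G) ≤ Subgroup.normalizer (K : Set G) := by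
    rw [hK]
    exact Subgroup.le_normalizer.trans
      (Cfsg.Agent.Helper1.normalizer_le_normalizer_induced (kInfLower_charP p) _ S.isPGroup')
  rw [← Cfsg.Agent.Lead.frobHyp_iff]
  intro Y hY g hg hcop
  have hgC : (g : G) ∈ Subgroup.centralizer (K : Set G) :=
    h _ g.2 (by rw [Subgroup.orderOf_coe]; exact hcop)
  rw [Subgroup.mem_centralizer_iff]
  intro y hy
  have hcY : ⁅(g : G), (y : G)⁆ ∈ Y.map (Subgroup.subtype _) := by
    have h1 := (Subgroup.mem_normalizer_iff.1 hg y).1 hy
    refine ⟨g * y * g⁻¹ * y⁻¹, Y.mul_mem h1 (Y.inv_mem hy), ?_⟩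
    simp [commutatorElement_def]
  have hcC : ⁅(g : G), (y : G)⁆ ∈ Subgroup.centralizer (K : Set G) := by
    have h1 : (y : G) * (g : G)⁻¹ * (y : G)⁻¹ ∈ Subgroup.centralizer (K : Set G) :=
      conj_mem_centralizer_of_mem_normalizer y.2 (Subgroup.inv_mem _ hgC)
    have e : ⁅(g : G), (y : G)⁆ = (g : G) * ((y : G) * (g : G)⁻¹ * (y : G)⁻¹) := by
      simp only [commutatorElement_def]; group
    rw [e]; exact Subgroup.mul_mem _ hgC h1
  obtain ⟨x, hxN, hx⟩ := exists_conj_mem_sylow_of_le S hSN (hY.map (Subgroup.subtype _))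
    (Subgroup.map_subtype_le Y)
  have hc3 : x * ⁅(g : G), (y : G)⁆ * x⁻¹ ∈ K :=
    hCS _ (hx _ hcY) (conj_mem_centralizer_of_mem_normalizer hxN hcC)
  have hcK : ⁅(g : G), (y : G)⁆ ∈ K := by
    have := (Subgroup.mem_normalizer_iff.1 (Subgroup.inv_mem _ hxN) _).1 hc3
    simpa [mul_assoc] using this
  have hst := pow_conj_of_stab (N := K) (e := (g : G)) (m := (y : G))
    (fun n hn => (Subgroup.mem_centralizer_iff.1 hgC n hn).symm) hcK (orderOf (g : G))
  rw [pow_orderOf_eq_one, inv_one, mul_one, one_mul] at hst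
  have hck : ⁅(g : G), (y : G)⁆ ^ orderOf (g : G) = 1 := by
    have := mul_right_cancel (a := (1 : G)) (b := (y : G))
      (c := ⁅(g : G), (y : G)⁆ ^ orderOf (g : G)) (by rw [one_mul]; exact hst)
    exact this.symm
  obtain ⟨j, hj⟩ := S.isPGroup' ⟨_, hKS hcK⟩
  have hcj : ⁅(g : G), (y : G)⁆ ^ p ^ j = 1 := congrArg Subtype.val hj
  have hone : orderOf ⁅(g : G), (y : G)⁆ = 1 := by
    have h1 := orderOf_dvd_of_pow_eq_one hck
    have h2 := orderOf_dvd_of_pow_eq_one hcj
    have hcop' : (orderOf (g : G)).Coprime (p ^ j) := by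
      rw [Subgroup.orderOf_coe]; exact Nat.Coprime.pow_right j hcop
    exact Nat.eq_one_of_dvd_coprimes hcop' h1 h2
  have hc1 : ⁅(g : G), (y : G)⁆ = 1 := orderOf_eq_one_iff.1 hone
  rw [commutatorElement_eq_one_iff_commute] at hc1
  exact Subtype.ext hc1.eq.symm

end KNpc

end Cfsg.Agent.Helper12
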