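import Mathlib
import Cfsg.Agent.Lead.NilBound

set_option autoImplicit false

namespace Cfsg.Agent.Helper12

/-- `2 ^ n ≤ (n + 1) * 2 ^ v_2(n!)`. -/
theorem nb_two_pow_le (n : ℕ) : 2 ^ n ≤ (n + 1) * 2 ^ (padicValNat 2 (Nat.factorial n)) := by
  induction n using Nat.strong_induction_on with
  | _ n ih =>
    rcases Nat.eq_zero_or_pos n with rfl | hpos
    · simp
    · obtain ⟨k, hk | hk⟩ := Nat.even_or_odd' n
      · subst hk
        have ih' := ih k (by omega)
        rw [padicValNat_factorial_mul]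
        have e1 : 2 ^ (2 * k) = 2 ^ k * 2 ^ k := by ring
        rw [e1, pow_add]
        calc 2 ^ k * 2 ^ k
            ≤ ((k + 1) * 2 ^ (padicValNat 2 (Nat.factorial k))) * 2 ^ k :=
              Nat.mul_le_mul_right _ ih'
          _ = (k + 1) * (2 ^ (padicValNat 2 (Nat.factorial k)) * 2 ^ k) := by ring
          _ ≤ (2 * k + 1) * (2 ^ (padicValNat 2 (Nat.factorial k)) * 2 ^ k) :=
              Nat.mul_le_mul_right _ (by omega)
      · subst hk
        have ih' := ih k (by omega)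
        rw [padicValNat_factorial_mul_add k (by norm_num : 1 < 2), padicValNat_factorial_mul]
        have e1 : 2 ^ (2 * k + 1) = 2 * (2 ^ k * 2 ^ k) := by ring
        rw [e1, pow_add]
        calc 2 * (2 ^ k * 2 ^ k)
            ≤ 2 * (((k + 1) * 2 ^ (padicValNat 2 (Nat.factorial k))) * 2 ^ k) :=
              Nat.mul_le_mul_left _ (Nat.mul_le_mul_right _ ih')
          _ = (2 * k + 1 + 1) * (2 ^ (padicValNat 2 (Nat.factorial k)) * 2 ^ k) := by ring

theorem nb_E (p : ℕ) [Fact p.Prime] (n : ℕ) :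
    padicValNat p (Nat.factorial (p ^ (n + 1)))
      = padicValNat p (Nat.factorial (p ^ n)) + p ^ n := by
  rw [pow_succ', padicValNat_factorial_mul]

theorem nb_step (p q E : ℕ) (hp : 1 ≤ p) (h1 : p ^ E * (q + 1) ≤ 2 ^ q)
    (h2 : p ^ (q + 1) ≤ 2 ^ ((p - 1) * q)) :
    p ^ (E + q) * (p * q + 1) ≤ 2 ^ (p * q) := by
  have e : 2 ^ (p * q) = 2 ^ q * 2 ^ ((p - 1) * q) := by
    rw [← pow_add]
    congr 1
    obtain ⟨k, rfl⟩ : ∃ k, p = k + 1 := ⟨p - 1, by omega⟩
    simp only [Nat.add_sub_cancel]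
    ring
  rw [e]
  calc p ^ (E + q) * (p * q + 1) ≤ p ^ (E + q) * (p * (q + 1)) := by
        apply Nat.mul_le_mul_left
        nlinarith
    _ = (p ^ E * (q + 1)) * p ^ (q + 1) := by ring
    _ ≤ 2 ^ q * 2 ^ ((p - 1) * q) := Nat.mul_le_mul h1 h2

theorem nb_two_mul_le (k : ℕ) : 2 * (k + 4) ≤ 2 ^ (k + 3) := by
  induction k with
  | zero => norm_num
  | succ k ih =>
    have e : 2 ^ (k + 1 + 3) = 2 * 2 ^ (k + 3) := by ring
    have h1 : 1 ≤ 2 ^ (k + 3) := Nat.one_le_two_pow
    rw [e]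
    linarith

theorem nb_pow5 (p q : ℕ) (hp : 4 ≤ p) (hq : p ≤ q) : p ^ (q + 1) ≤ 2 ^ ((p - 1) * q) := by
  have h1 : 2 * p ≤ 2 ^ (p - 1) := by
    obtain ⟨k, rfl⟩ : ∃ k, p = k + 4 := ⟨p - 4, by omega⟩
    have e : k + 4 - 1 = k + 3 := by omega
    rw [e]
    exact nb_two_mul_le k
  calc p ^ (q + 1) = p ^ q * p := pow_succ p q
    _ ≤ p ^ q * 2 ^ q := Nat.mul_le_mul_left _ (le_trans hq Nat.lt_two_pow_self.le)
    _ = (2 * p) ^ q := by rw [mul_pow, mul_comm]
    _ ≤ (2 ^ (p - 1)) ^ q := Nat.pow_le_pow_left h1 q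
    _ = 2 ^ ((p - 1) * q) := (pow_mul 2 (p - 1) q).symm

theorem nb_pow3 (q : ℕ) (hq : 4 ≤ q) : 3 ^ (q + 1) ≤ 2 ^ ((3 - 1) * q) := by
  obtain ⟨k, rfl⟩ : ∃ k, q = k + 4 := ⟨q - 4, by omega⟩
  show 3 ^ (k + 4 + 1) ≤ 2 ^ (2 * (k + 4))
  clear hq
  induction k with
  | zero => norm_num
  | succ k ih =>
    have e1 : 3 ^ (k + 1 + 4 + 1) = 3 * 3 ^ (k + 4 + 1) := by ring
    have e2 : 2 ^ (2 * (k + 1 + 4)) = 4 * 2 ^ (2 * (k + 4)) := by ring
    rw [e1, e2]
    calc 3 * 3 ^ (k + 4 + 1) ≤ 3 * 2 ^ (2 * (k + 4)) := Nat.mul_le_mul_left _ ih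
      _ ≤ 4 * 2 ^ (2 * (k + 4)) := Nat.mul_le_mul_right _ (by norm_num)

theorem nb_base5 (k : ℕ) : (k + 5) * (k + 5 + 1) ≤ 2 ^ (k + 5) := by
  induction k with
  | zero => norm_num
  | succ k ih =>
    have e : 2 ^ (k + 1 + 5) = 2 * 2 ^ (k + 5) := by ring
    rw [e]
    nlinarith

theorem nb_big (p : ℕ) [Fact p.Prime] (hp : 5 ≤ p) (n : ℕ) :
    p ^ (padicValNat p (Nat.factorial (p ^ (n + 1)))) * (p ^ (n + 1) + 1)
      ≤ 2 ^ (p ^ (n + 1)) := by
  induction n with
  | zero =>
    rw [nb_E p 0]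
    simp only [pow_zero, Nat.factorial_one, padicValNat_one_right, zero_add, pow_one]
    obtain ⟨k, rfl⟩ : ∃ k, p = k + 5 := ⟨p - 5, by omega⟩
    exact nb_base5 k
  | succ n ih =>
    rw [nb_E p (n + 1)]
    have h2 := nb_pow5 p (p ^ (n + 1)) (by omega) (Nat.le_self_pow (by omega) p)
    have h := nb_step p (p ^ (n + 1)) _ (by omega) ih h2
    rw [pow_succ' p (n + 1)]
    exact h

theorem nb_three (n : ℕ) :
    3 ^ (padicValNat 3 (Nat.factorial (3 ^ (n + 3)))) * (3 ^ (n + 3) + 1)
      ≤ 2 ^ (3 ^ (n + 3)) := by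
  induction n with
  | zero =>
    have e : padicValNat 3 (Nat.factorial (3 ^ (0 + 3))) = 13 := by
      rw [nb_E 3 2, nb_E 3 1, nb_E 3 0]
      simp
    rw [e]
    norm_num
  | succ n ih =>
    have e : n + 1 + 3 = (n + 3) + 1 := by omega
    rw [e, nb_E 3 (n + 3)]
    have hq : 4 ≤ 3 ^ (n + 3) := by
      have : 3 ^ 3 ≤ 3 ^ (n + 3) := Nat.pow_le_pow_right (by norm_num) (by omega)
      omega
    have h2 := nb_pow3 (3 ^ (n + 3)) hq
    have h := nb_step 3 (3 ^ (n + 3)) _ (by norm_num) ih h2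
    rw [pow_succ' 3 (n + 3)]
    exact h

theorem nb_nine :
    3 ^ (padicValNat 3 (Nat.factorial (3 ^ 2))) ≤ 2 ^ (padicValNat 2 (Nat.factorial (3 ^ 2))) := by
  have e : padicValNat 3 (Nat.factorial (3 ^ 2)) = 4 := by
    rw [nb_E 3 1, nb_E 3 0]
    simp
  have h7 : 7 ≤ padicValNat 2 (Nat.factorial (3 ^ 2)) := by
    rw [← Nat.factorization_def _ Nat.prime_two]
    exact (Nat.prime_two.pow_dvd_iff_le_factorization (Nat.factorial_ne_zero _)).mp (by decide)
  rw [e]
  calc 3 ^ 4 ≤ 2 ^ 7 := by norm_num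
    _ ≤ 2 ^ (padicValNat 2 (Nat.factorial (3 ^ 2))) := Nat.pow_le_pow_right (by norm_num) h7

theorem nb_prime_pow_eq (p n : ℕ) (hp : p.Prime) (hn : 0 < n) :
    Lead.nilBound (p ^ n) = p ^ ((Nat.factorial (p ^ n)).factorization p) := by
  unfold Lead.nilBound
  rw [Nat.primeFactors_prime_pow hn.ne' hp, Finset.prod_singleton, hp.factorization_pow,
    Finsupp.single_eq_same]

theorem nb_prime_pow (p n : ℕ) (hp : p.Prime) (hn : 0 < n) (h3 : p ^ n ≠ 3) :
    Lead.nilBound (p ^ n) ≤ 2 ^ ((Nat.factorial (p ^ n)).factorization 2) := by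
  rw [nb_prime_pow_eq p n hp hn, Nat.factorization_def _ hp, Nat.factorization_def _ Nat.prime_two]
  have : Fact p.Prime := ⟨hp⟩
  by_cases h2 : p = 2
  · subst h2
    exact le_rfl
  by_cases h3' : p = 3
  · subst h3'
    obtain ⟨k, rfl⟩ : ∃ k, n = k + 1 := ⟨n - 1, by omega⟩
    rcases k with _ | k
    · exact absurd (by norm_num) h3
    rcases k with _ | k
    · exact nb_nine
    · have h := nb_three k
      have h' := nb_two_pow_le (3 ^ (k + 3))
      rw [mul_comm] at h'
      exact Nat.le_of_mul_le_mul_right (h.trans h') (Nat.succ_pos _)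
  · have h5 : 5 ≤ p := by
      by_contra h
      have hlt : p < 5 := by omega
      have h2' := hp.two_le
      interval_cases p
      · exact h2 rfl
      · exact h3' rfl
      · exact absurd hp (by decide)
    obtain ⟨k, rfl⟩ : ∃ k, n = k + 1 := ⟨n - 1, by omega⟩
    have h := nb_big p h5 k
    have h' := nb_two_pow_le (p ^ (k + 1))
    rw [mul_comm] at h'
    exact Nat.le_of_mul_le_mul_right (h.trans h') (Nat.succ_pos _)

theorem nb_mul {a b : ℕ} (hab : Nat.Coprime a b) (ha : a ≠ 0) (hb : b ≠ 0) :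
    Lead.nilBound (a * b) = Lead.nilBound a * Lead.nilBound b := by
  unfold Lead.nilBound
  rw [hab.primeFactors_mul, Finset.prod_union hab.disjoint_primeFactors]
  congr 1
  · apply Finset.prod_congr rfl
    intro p hp
    have hpp := Nat.prime_of_mem_primeFactors hp
    have hpa := Nat.dvd_of_mem_primeFactors hp
    have hpb : ¬ p ∣ b := (hpp.coprime_iff_not_dvd).mp (Nat.Coprime.coprime_dvd_left hpa hab)
    rw [Nat.factorization_mul ha hb, Finsupp.add_apply,
      Nat.factorization_eq_zero_of_not_dvd hpb, add_zero]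
  · apply Finset.prod_congr rfl
    intro p hp
    have hpp := Nat.prime_of_mem_primeFactors hp
    have hpb := Nat.dvd_of_mem_primeFactors hp
    have hpa : ¬ p ∣ a :=
      (hpp.coprime_iff_not_dvd).mp (Nat.Coprime.coprime_dvd_left hpb hab.symm)
    rw [Nat.factorization_mul ha hb, Finsupp.add_apply,
      Nat.factorization_eq_zero_of_not_dvd hpa, zero_add]

theorem nb_v_mono {a b : ℕ} (h : a ≤ b) :
    a.factorial.factorization 2 ≤ b.factorial.factorization 2 :=
  (Nat.factorization_le_iff_dvd (Nat.factorial_ne_zero a) (Nat.factorial_ne_zero b)).mpr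
    (Nat.factorial_dvd_factorial h) 2

theorem nb_v_add (a b : ℕ) :
    a.factorial.factorization 2 + b.factorial.factorization 2
      ≤ (a + b).factorial.factorization 2 := by
  have h := (Nat.factorization_le_iff_dvd
    (mul_ne_zero (Nat.factorial_ne_zero a) (Nat.factorial_ne_zero b))
    (Nat.factorial_ne_zero (a + b))).mpr (Nat.factorial_mul_factorial_dvd_factorial_add a b) 2
  rw [Nat.factorization_mul (Nat.factorial_ne_zero a) (Nat.factorial_ne_zero b),
    Finsupp.add_apply] at h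
  exact h

theorem nb_three_mul (b : ℕ) (hb : 1 < b) :
    3 * 2 ^ (b.factorial.factorization 2) ≤ 2 ^ ((3 * b).factorial.factorization 2) := by
  have h4 : 2 ≤ (Nat.factorial 4).factorization 2 :=
    (Nat.prime_two.pow_dvd_iff_le_factorization (Nat.factorial_ne_zero 4)).mp (by decide)
  have h1 : b.factorial.factorization 2 + 2 ≤ (3 * b).factorial.factorization 2 :=
    calc b.factorial.factorization 2 + 2
        ≤ b.factorial.factorization 2 + (Nat.factorial 4).factorization 2 := by omega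
      _ ≤ (b + 4).factorial.factorization 2 := nb_v_add b 4
      _ ≤ (3 * b).factorial.factorization 2 := nb_v_mono (by omega)
  calc 3 * 2 ^ (b.factorial.factorization 2)
      ≤ 2 ^ 2 * 2 ^ (b.factorial.factorization 2) := Nat.mul_le_mul_right _ (by norm_num)
    _ = 2 ^ (b.factorial.factorization 2 + 2) := by rw [pow_add, mul_comm]
    _ ≤ 2 ^ ((3 * b).factorial.factorization 2) := Nat.pow_le_pow_right (by norm_num) h1

theorem nilBound_three : Lead.nilBound 3 = 3 := by
  have h := nb_prime_pow_eq 3 1 Nat.prime_three one_pos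
  rw [pow_one] at h
  rw [h, Nat.factorization_def _ Nat.prime_three]
  have e : padicValNat 3 (Nat.factorial 3) = 1 := by
    have := nb_E 3 0
    simpa using this
  rw [e, pow_one]

theorem nilBound_le (m : ℕ) (hm : 0 < m) (h3 : m ≠ 3) :
    Lead.nilBound m ≤ 2 ^ (m.factorial.factorization 2) := by
  have key : ∀ m : ℕ, m ≠ 3 → Lead.nilBound m ≤ 2 ^ (m.factorial.factorization 2) := by
    intro m
    refine Nat.recOnPosPrimePosCoprime
      (motive := fun m => m ≠ 3 → Lead.nilBound m ≤ 2 ^ (m.factorial.factorization 2))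
      ?_ ?_ ?_ ?_ m
    · intro p n hp hn h
      exact nb_prime_pow p n hp hn h
    · intro _
      simp [Lead.nilBound]
    · intro _
      simp [Lead.nilBound]
    · intro a b ha hb hab iha ihb _
      have ha0 : a ≠ 0 := by omega
      have hb0 : b ≠ 0 := by omega
      rw [nb_mul hab ha0 hb0]
      by_cases ha3 : a = 3
      · subst ha3
        have hb3 : b ≠ 3 := by
          rintro rfl
          exact absurd hab (by decide)
        rw [nilBound_three]
        calc 3 * Lead.nilBound b ≤ 3 * 2 ^ (b.factorial.factorization 2) :=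
              Nat.mul_le_mul_left _ (ihb hb3)
          _ ≤ 2 ^ ((3 * b).factorial.factorization 2) := nb_three_mul b hb
      by_cases hb3 : b = 3
      · subst hb3
        rw [nilBound_three, mul_comm a 3, mul_comm (Lead.nilBound a) 3]
        calc 3 * Lead.nilBound a ≤ 3 * 2 ^ (a.factorial.factorization 2) :=
              Nat.mul_le_mul_left _ (iha ha3)
          _ ≤ 2 ^ ((3 * a).factorial.factorization 2) := nb_three_mul a ha
      · calc Lead.nilBound a * Lead.nilBound b
            ≤ 2 ^ (a.factorial.factorization 2) * 2 ^ (b.factorial.factorization 2) :=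
              Nat.mul_le_mul (iha ha3) (ihb hb3)
          _ = 2 ^ (a.factorial.factorization 2 + b.factorial.factorization 2) :=
              (pow_add _ _ _).symm
          _ ≤ 2 ^ ((a * b).factorial.factorization 2) :=
              Nat.pow_le_pow_right (by norm_num)
                ((nb_v_add a b).trans (nb_v_mono (Nat.add_le_mul ha hb)))
  exact key m h3

end Cfsg.Agent.Helper12
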