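import Mathlib
import Cfsg.Agent.Lead.NilBound
import Cfsg.Agent.Helper12.NilPerm

set_option autoImplicit false

namespace Cfsg.Agent.Helper12

theorem na_step2 (p q E : ℕ) (hp : 1 ≤ p) (h1 : 2 * (p ^ E * (q + 1)) ≤ 2 ^ q)
    (h2 : p ^ (q + 1) ≤ 2 ^ ((p - 1) * q)) :
    2 * (p ^ (E + q) * (p * q + 1)) ≤ 2 ^ (p * q) := by
  have e : 2 ^ (p * q) = 2 ^ q * 2 ^ ((p - 1) * q) := by
    rw [← pow_add]
    congr 1
    obtain ⟨k, rfl⟩ : ∃ k, p = k + 1 := ⟨p - 1, by omega⟩
    simp only [Nat.add_sub_cancel]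
    ring
  rw [e]
  calc 2 * (p ^ (E + q) * (p * q + 1)) ≤ 2 * (p ^ (E + q) * (p * (q + 1))) := by
        apply Nat.mul_le_mul_left
        apply Nat.mul_le_mul_left
        nlinarith
    _ = (2 * (p ^ E * (q + 1))) * p ^ (q + 1) := by ring
    _ ≤ 2 ^ q * 2 ^ ((p - 1) * q) := Nat.mul_le_mul h1 h2

theorem na_ind (p : ℕ) [Fact p.Prime] (n0 : ℕ)
    (hbase : 2 * (p ^ (padicValNat p (Nat.factorial (p ^ n0))) * (p ^ n0 + 1)) ≤ 2 ^ (p ^ n0))
    (hpow : ∀ q, p ^ n0 ≤ q → p ^ (q + 1) ≤ 2 ^ ((p - 1) * q)) (k : ℕ) :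
    2 * (p ^ (padicValNat p (Nat.factorial (p ^ (n0 + k)))) * (p ^ (n0 + k) + 1))
      ≤ 2 ^ (p ^ (n0 + k)) := by
  have hp1 : 1 ≤ p := (Fact.out : p.Prime).one_lt.le
  induction k with
  | zero => exact hbase
  | succ k ih =>
    have e : n0 + (k + 1) = (n0 + k) + 1 := by omega
    rw [e, nb_E p (n0 + k)]
    have h2 := hpow (p ^ (n0 + k)) (Nat.pow_le_pow_right hp1 (by omega))
    have h := na_step2 p (p ^ (n0 + k)) _ hp1 ih h2
    rw [pow_succ' p (n0 + k)]
    exact h

theorem na_base7 (k : ℕ) : 2 * ((k + 7) * (k + 7 + 1)) ≤ 2 ^ (k + 7) := by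
  induction k with
  | zero => norm_num
  | succ k ih =>
    have e : 2 ^ (k + 1 + 7) = 2 * 2 ^ (k + 7) := by ring
    rw [e]
    nlinarith [ih, Nat.zero_le (k * k)]

theorem na_prime_pow (p n : ℕ) (hp : p.Prime) (hn : 0 < n) (hodd : Odd (p ^ n))
    (h3 : p ^ n ≠ 3) (h5 : p ^ n ≠ 5) (h9 : p ^ n ≠ 9) :
    2 * Lead.nilBound (p ^ n) ≤ 2 ^ ((Nat.factorial (p ^ n)).factorization 2) := by
  rw [nb_prime_pow_eq p n hp hn, Nat.factorization_def _ hp, Nat.factorization_def _ Nat.prime_two]
  have : Fact p.Prime := ⟨hp⟩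
  have hp2 : p ≠ 2 := by
    rintro rfl
    have hev : Even (2 ^ n) := Nat.even_pow.mpr ⟨even_two, hn.ne'⟩
    exact (Nat.not_odd_iff_even.mpr hev) hodd
  have fin : ∀ q E : ℕ, 2 * (p ^ E * (q + 1)) ≤ 2 ^ q →
      2 * p ^ E ≤ 2 ^ (padicValNat 2 (Nat.factorial q)) := by
    intro q E h
    have h' := nb_two_pow_le q
    rw [mul_comm] at h'
    have h'' : (2 * p ^ E) * (q + 1) ≤ 2 ^ (padicValNat 2 (Nat.factorial q)) * (q + 1) := by
      calc (2 * p ^ E) * (q + 1) = 2 * (p ^ E * (q + 1)) := by ring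
        _ ≤ 2 ^ q := h
        _ ≤ _ := h'
    exact Nat.le_of_mul_le_mul_right h'' (Nat.succ_pos _)
  apply fin
  by_cases hp3 : p = 3
  · subst hp3
    obtain ⟨k, rfl⟩ : ∃ k, n = 3 + k := ⟨n - 3, by
      rcases n with _ | _ | _ | n
      · omega
      · exact absurd (by norm_num) h3
      · exact absurd (by norm_num) h9
      · omega⟩
    refine na_ind 3 3 ?_ (fun q hq => nb_pow3 q (by norm_num at hq; omega)) k
    have e : padicValNat 3 (Nat.factorial (3 ^ 3)) = 13 := by
      rw [nb_E 3 2, nb_E 3 1, nb_E 3 0]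
      simp
    rw [e]
    norm_num
  by_cases hp5 : p = 5
  · subst hp5
    obtain ⟨k, rfl⟩ : ∃ k, n = 2 + k := ⟨n - 2, by
      rcases n with _ | _ | n
      · omega
      · exact absurd (by norm_num) h5
      · omega⟩
    refine na_ind 5 2 ?_ (fun q hq => nb_pow5 5 q (by norm_num) (by norm_num at hq; omega)) k
    have e : padicValNat 5 (Nat.factorial (5 ^ 2)) = 6 := by
      rw [nb_E 5 1, nb_E 5 0]
      simp
    rw [e]
    norm_num
  · have h7 : 7 ≤ p := by
      by_contra h
      have hlt : p < 7 := by omega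
      have h2' := hp.two_le
      interval_cases p
      · exact hp2 rfl
      · exact hp3 rfl
      · exact absurd hp (by decide)
      · exact hp5 rfl
      · exact absurd hp (by decide)
    obtain ⟨k, rfl⟩ : ∃ k, n = 1 + k := ⟨n - 1, by omega⟩
    refine na_ind p 1 ?_
      (fun q hq => nb_pow5 p q (by omega) (by rw [pow_one] at hq; exact hq)) k
    rw [nb_E p 0]
    simp only [pow_zero, Nat.factorial_one, padicValNat_one_right, zero_add, pow_one]
    obtain ⟨j, rfl⟩ : ∃ j, p = j + 7 := ⟨p - 7, by omega⟩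
    exact na_base7 j

theorem na_v2 : 1 ≤ (Nat.factorial 2).factorization 2 :=
  (Nat.prime_two.pow_dvd_iff_le_factorization (Nat.factorial_ne_zero 2)).mp (by decide)

theorem na_v4 : 3 ≤ (Nat.factorial 4).factorization 2 :=
  (Nat.prime_two.pow_dvd_iff_le_factorization (Nat.factorial_ne_zero 4)).mp (by decide)

theorem na_six_mul (b : ℕ) (hb : 2 ≤ b) :
    6 * 2 ^ (b.factorial.factorization 2) ≤ 2 ^ ((3 * b).factorial.factorization 2) := by
  have h1 : b.factorial.factorization 2 + 3 ≤ (3 * b).factorial.factorization 2 :=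
    calc b.factorial.factorization 2 + 3
        ≤ b.factorial.factorization 2 + (Nat.factorial 4).factorization 2 := by
          have := na_v4
          omega
      _ ≤ (b + 4).factorial.factorization 2 := nb_v_add b 4
      _ ≤ (3 * b).factorial.factorization 2 := nb_v_mono (by omega)
  calc 6 * 2 ^ (b.factorial.factorization 2)
      ≤ 2 ^ 3 * 2 ^ (b.factorial.factorization 2) := Nat.mul_le_mul_right _ (by norm_num)
    _ = 2 ^ (b.factorial.factorization 2 + 3) := by rw [pow_add, mul_comm]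
    _ ≤ 2 ^ ((3 * b).factorial.factorization 2) := Nat.pow_le_pow_right (by norm_num) h1

theorem nilBound_odd_two_mul_le (m : ℕ) (hodd : Odd m) (h1 : m ≠ 1) (h3 : m ≠ 3) (h5 : m ≠ 5)
    (h9 : m ≠ 9) : 2 * Lead.nilBound m ≤ 2 ^ (m.factorial.factorization 2) := by
  have key : ∀ m : ℕ, Odd m → m ≠ 1 → m ≠ 3 → m ≠ 5 → m ≠ 9 →
      2 * Lead.nilBound m ≤ 2 ^ (m.factorial.factorization 2) := by
    intro m
    refine Nat.recOnPosPrimePosCoprime
      (motive := fun m => Odd m → m ≠ 1 → m ≠ 3 → m ≠ 5 → m ≠ 9 →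
        2 * Lead.nilBound m ≤ 2 ^ (m.factorial.factorization 2)) ?_ ?_ ?_ ?_ m
    · intro p n hp hn ho _ h3 h5 h9
      exact na_prime_pow p n hp hn ho h3 h5 h9
    · intro ho
      exact absurd ho (by decide)
    · intro _ h
      exact absurd rfl h
    · intro a b ha hb hab _ _ ho _ _ _ _
      have hoa : Odd a := (Nat.odd_mul.mp ho).1
      have hob : Odd b := (Nat.odd_mul.mp ho).2
      have ha0 : a ≠ 0 := by omega
      have hb0 : b ≠ 0 := by omega
      have ha3 : 3 ≤ a := by
        rcases hoa with ⟨k, rfl⟩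
        omega
      have hb3 : 3 ≤ b := by
        rcases hob with ⟨k, rfl⟩
        omega
      rw [nb_mul hab ha0 hb0]
      by_cases ha3' : a = 3
      · subst ha3'
        have hb3' : b ≠ 3 := by
          rintro rfl
          exact absurd hab (by decide)
        rw [nilBound_three]
        calc 2 * (3 * Lead.nilBound b) = 6 * Lead.nilBound b := by ring
          _ ≤ 6 * 2 ^ (b.factorial.factorization 2) :=
              Nat.mul_le_mul_left _ (nilBound_le b (by omega) hb3')
          _ ≤ 2 ^ ((3 * b).factorial.factorization 2) := na_six_mul b (by omega)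
      by_cases hb3' : b = 3
      · subst hb3'
        rw [nilBound_three, mul_comm a 3]
        calc 2 * (Lead.nilBound a * 3) = 6 * Lead.nilBound a := by ring
          _ ≤ 6 * 2 ^ (a.factorial.factorization 2) :=
              Nat.mul_le_mul_left _ (nilBound_le a (by omega) ha3')
          _ ≤ 2 ^ ((3 * a).factorial.factorization 2) := na_six_mul a (by omega)
      · have hsum : a + b + 2 ≤ a * b := by
          obtain ⟨x, rfl⟩ : ∃ x, a = x + 3 := ⟨a - 3, by omega⟩
          obtain ⟨y, rfl⟩ : ∃ y, b = y + 3 := ⟨b - 3, by omega⟩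
          nlinarith [Nat.zero_le (x * y)]
        have hv : a.factorial.factorization 2 + b.factorial.factorization 2 + 1
            ≤ (a * b).factorial.factorization 2 :=
          calc a.factorial.factorization 2 + b.factorial.factorization 2 + 1
              ≤ (a + b).factorial.factorization 2 + (Nat.factorial 2).factorization 2 := by
                have h2 := na_v2
                have hab' := nb_v_add a b
                omega
            _ ≤ (a + b + 2).factorial.factorization 2 := nb_v_add (a + b) 2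
            _ ≤ (a * b).factorial.factorization 2 := nb_v_mono hsum
        calc 2 * (Lead.nilBound a * Lead.nilBound b)
            ≤ 2 * (2 ^ (a.factorial.factorization 2) * 2 ^ (b.factorial.factorization 2)) :=
              Nat.mul_le_mul_left _
                (Nat.mul_le_mul (nilBound_le a (by omega) ha3') (nilBound_le b (by omega) hb3'))
          _ = 2 ^ (a.factorial.factorization 2 + b.factorial.factorization 2 + 1) := by
              rw [pow_succ, pow_add]
              ring
          _ ≤ 2 ^ ((a * b).factorial.factorization 2) := Nat.pow_le_pow_right (by norm_num) hv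
  exact key m hodd h1 h3 h5 h9

end Cfsg.Agent.Helper12
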