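import Mathlib

set_option autoImplicit false

namespace Cfsg.Agent.Helper12

theorem exists_nil_three_mul (n : ℕ) (hn : 3 ≤ n) (P : Sylow 2 (Equiv.Perm (Fin (n - 3)))) : ∃ M : Subgroup (Equiv.Perm (Fin n)), Group.IsNilpotent M ∧ Nat.card M = 3 * Nat.card P ∧ Nonempty (M ≃* (↥(P : Subgroup (Equiv.Perm (Fin (n - 3)))) × Multiplicative (ZMod 3))) := by
  classical
  have hcard : Fintype.card (Fin (n - 3) ⊕ Multiplicative (ZMod 3)) = n := by
    have h3 : Fintype.card (Multiplicative (ZMod 3)) = 3 := by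
      rw [Fintype.card_multiplicative, ZMod.card]
    rw [Fintype.card_sum, Fintype.card_fin, h3]
    omega
  obtain ⟨f, hf⟩ : ∃ f : Equiv.Perm (Fin (n - 3)) × Multiplicative (ZMod 3) →* Equiv.Perm (Fin n),
      Function.Injective f := by
    refine ⟨((Fintype.equivFinOfCardEq hcard).permCongrHom.toMonoidHom.comp
      (Equiv.Perm.sumCongrHom (Fin (n - 3)) (Multiplicative (ZMod 3)))).comp
      (MonoidHom.prodMap (MonoidHom.id _)
        (MulAction.toPermHom (Multiplicative (ZMod 3)) (Multiplicative (ZMod 3)))), ?_⟩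
    intro a b hab
    have h1 : Equiv.Perm.sumCongrHom (Fin (n - 3)) (Multiplicative (ZMod 3))
          (a.1, MulAction.toPermHom (Multiplicative (ZMod 3)) (Multiplicative (ZMod 3)) a.2)
        = Equiv.Perm.sumCongrHom (Fin (n - 3)) (Multiplicative (ZMod 3))
          (b.1, MulAction.toPermHom (Multiplicative (ZMod 3)) (Multiplicative (ZMod 3)) b.2) :=
      (Fintype.equivFinOfCardEq hcard).permCongrHom.injective hab
    have h2 := Equiv.Perm.sumCongrHom_injective h1
    have h3 : a.1 = b.1 := (Prod.mk.inj h2).1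
    have h4 : MulAction.toPerm (β := Multiplicative (ZMod 3)) a.2
        = MulAction.toPerm (β := Multiplicative (ZMod 3)) b.2 := (Prod.mk.inj h2).2
    have h5 : a.2 = b.2 := MulAction.toPerm_injective h4
    exact Prod.ext h3 h5
  have eM : ↥(((P : Subgroup (Equiv.Perm (Fin (n - 3)))).prod
      (⊤ : Subgroup (Multiplicative (ZMod 3)))).map f)
      ≃* (↥(P : Subgroup (Equiv.Perm (Fin (n - 3)))) × Multiplicative (ZMod 3)) :=
    ((Subgroup.equivMapOfInjective _ f hf).symm.trans
      (Subgroup.prodEquiv (P : Subgroup (Equiv.Perm (Fin (n - 3))))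
        (⊤ : Subgroup (Multiplicative (ZMod 3))))).trans
      (MulEquiv.prodCongr (MulEquiv.refl _) Subgroup.topEquiv)
  refine ⟨((P : Subgroup (Equiv.Perm (Fin (n - 3)))).prod
      (⊤ : Subgroup (Multiplicative (ZMod 3)))).map f, ?_, ?_, ⟨eM⟩⟩
  · have hPn : Group.IsNilpotent ↥(P : Subgroup (Equiv.Perm (Fin (n - 3)))) :=
      IsPGroup.isNilpotent P.isPGroup'
    exact Group.nilpotent_of_mulEquiv eM.symm
  · have hC : Nat.card (Multiplicative (ZMod 3)) = 3 := by
      rw [Nat.card_congr Multiplicative.toAdd, Nat.card_zmod]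
    rw [Nat.card_congr eM.toEquiv, Nat.card_prod, hC, mul_comm]

end Cfsg.Agent.Helper12
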