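import Cfsg.Agent.Helper12.AlpInd
import Cfsg.Agent.Helper12.SylSub
import Cfsg.Prelude.Def_Local

/-!
Tightly embedded subgroups: a Sylow 2-subgroup `T` of `Q^g ∩ N(Q)` and the subgroup
`N_S(T) ∩ Q` for a Sylow 2-subgroup `S` of `Q T`.
-/

namespace Cfsg.Agent.Helper12

open scoped Pointwise

variable {G : Type*} [Group G]

/-- Nontrivial 2-elements of `K` are conjugated into `K` only by elements of `N(K)`. -/
def TwoFree (K : Subgroup G) : Prop :=
  ∀ e ∈ K, e ≠ 1 → (∃ k : ℕ, e ^ 2 ^ k = 1) → ∀ x : G, x * e * x⁻¹ ∈ K →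
    x ∈ Subgroup.normalizer (K : Set G)

theorem twoFree_of_tight [Finite G] {Q : Subgroup G} (hQ : Cfsg.IsTightlyEmbedded Q) :
    TwoFree Q := by
  rintro e he hne ⟨k, hk⟩ x hx
  by_contra hxN
  have hxN' : x⁻¹ ∉ Subgroup.normalizer (Q : Set G) := fun h => hxN (by simpa using inv_mem h)
  have hodd := hQ.2 x⁻¹ hxN'
  have hmem : e ∈ Q ⊓ Q.map (MulAut.conj x⁻¹).toMonoidHom :=
    Subgroup.mem_inf.mpr ⟨he, (mem_map_conj_iff _ _ _).mpr (by rw [inv_inv]; exact hx)⟩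
  have h1 : orderOf (⟨e, hmem⟩ : ↥(Q ⊓ Q.map (MulAut.conj x⁻¹).toMonoidHom)) ∣ 2 ^ k := by
    apply orderOf_dvd_of_pow_eq_one
    exact Subtype.ext (by rw [Subgroup.coe_pow]; exact hk)
  have h2 := orderOf_dvd_natCard (⟨e, hmem⟩ : ↥(Q ⊓ Q.map (MulAut.conj x⁻¹).toMonoidHom))
  have hcop : Nat.Coprime (2 ^ k) (Nat.card ↥(Q ⊓ Q.map (MulAut.conj x⁻¹).toMonoidHom)) :=
    Nat.Coprime.pow_left k (Nat.coprime_two_left.mpr hodd)
  have h3 : orderOf (⟨e, hmem⟩ : ↥(Q ⊓ Q.map (MulAut.conj x⁻¹).toMonoidHom)) = 1 :=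
    Nat.eq_one_of_dvd_coprimes hcop h1 h2
  rw [orderOf_eq_one_iff] at h3
  exact hne (congrArg Subtype.val h3)

theorem twoFree_cjs {K : Subgroup G} (h : TwoFree K) (g : G) : TwoFree (cjs g K) := by
  rintro e he hne ⟨k, hk⟩ x hx
  rw [mem_cjs_iff] at he hx
  have hx' : (g * x * g⁻¹) * (g * e * g⁻¹) * (g * x * g⁻¹)⁻¹ ∈ K := by
    have e1 : (g * x * g⁻¹) * (g * e * g⁻¹) * (g * x * g⁻¹)⁻¹ = g * (x * e * x⁻¹) * g⁻¹ := by
      group
    rw [e1]; exact hx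
  have hne' : g * e * g⁻¹ ≠ 1 := by
    intro h1
    apply hne
    have e2 : e = g⁻¹ * (g * e * g⁻¹) * g := by group
    rw [e2, h1]; group
  have hk' : (g * e * g⁻¹) ^ 2 ^ k = 1 := by
    rw [conj_pow, hk]; group
  have h3 := h _ he hne' ⟨k, hk'⟩ _ hx'
  rw [normalizer_cjs, mem_cjs_iff]
  exact h3

theorem card_sup_of_le_normalizer [Finite G] {A B : Subgroup G}
    (hn : B ≤ Subgroup.normalizer (A : Set G)) (hd : A ⊓ B = ⊥) :
    Nat.card ↥(A ⊔ B) = Nat.card A * Nat.card B := by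
  have hset : ((A ⊔ B : Subgroup G) : Set G) = (A : Set G) * (B : Set G) :=
    Subgroup.coe_mul_of_right_le_normalizer_left A B hn
  rw [← Nat.card_prod]
  symm
  apply Nat.card_congr
  refine Equiv.ofBijective (fun ab : A × B => (⟨(ab.1 : G) * (ab.2 : G),
    mul_mem (Subgroup.mem_sup_left ab.1.2) (Subgroup.mem_sup_right ab.2.2)⟩ : ↥(A ⊔ B))) ⟨?_, ?_⟩
  · rintro ⟨a, b⟩ ⟨a', b'⟩ h
    have h' : (a : G) * b = a' * b' := congrArg Subtype.val h
    have h1 : (a' : G)⁻¹ * a = b' * (b : G)⁻¹ := by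
      calc (a' : G)⁻¹ * a = (a' : G)⁻¹ * (a * b) * (b : G)⁻¹ := by group
        _ = (a' : G)⁻¹ * (a' * b') * (b : G)⁻¹ := by rw [h']
        _ = b' * (b : G)⁻¹ := by group
    have h2 : (a' : G)⁻¹ * a ∈ A ⊓ B :=
      Subgroup.mem_inf.mpr
        ⟨mul_mem (inv_mem a'.2) a.2, by rw [h1]; exact mul_mem b'.2 (inv_mem b.2)⟩
    rw [hd, Subgroup.mem_bot] at h2
    have ha : (a : G) = a' := by
      calc (a : G) = a' * ((a' : G)⁻¹ * a) := by group
        _ = a' := by rw [h2, mul_one]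
    have hb : (b : G) = b' := by
      rw [ha] at h'
      exact mul_left_cancel h'
    exact Prod.ext (Subtype.ext ha) (Subtype.ext hb)
  · rintro ⟨x, hx⟩
    have hx' : x ∈ (A : Set G) * (B : Set G) := by rw [← hset]; exact hx
    obtain ⟨a, ha, b, hb, rfl⟩ := hx'
    exact ⟨(⟨a, ha⟩, ⟨b, hb⟩), rfl⟩

theorem card_mul_relIndex' {H K : Subgroup G} (h : H ≤ K) :
    Nat.card H * H.relIndex K = Nat.card K := by
  have h1 := Subgroup.relIndex_mul_relIndex (⊥ : Subgroup G) H K bot_le h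
  rwa [Subgroup.relIndex_bot_left, Subgroup.relIndex_bot_left] at h1

theorem exists_sylow_ge_of_le [Finite G] {p : ℕ} [Fact p.Prime] {R H : Subgroup G}
    (hR : IsPGroup p R) (hRH : R ≤ H) :
    ∃ S : Subgroup G, R ≤ S ∧ S ≤ H ∧ IsPGroup p S ∧ ¬ p ∣ S.relIndex H := by
  obtain ⟨P, hP⟩ := exists_sylow_map_ge hR hRH
  refine ⟨(P : Subgroup H).map H.subtype, hP, ?_, P.isPGroup'.map _, sylow_map_subtype_relIndex P⟩
  rintro _ ⟨y, -, rfl⟩
  exact y.2

theorem card_le_of_conj_mem [Finite G] {A B : Subgroup G} {m : G}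
    (h : ∀ q ∈ A, m * q * m⁻¹ ∈ B) : Nat.card A ≤ Nat.card B := by
  apply Nat.card_le_card_of_injective (fun q : A => (⟨m * q * m⁻¹, h q q.2⟩ : B))
  intro q q' hqq
  have h1 : m * (q : G) * m⁻¹ = m * (q' : G) * m⁻¹ := congrArg Subtype.val hqq
  apply Subtype.ext
  exact mul_left_cancel (mul_right_cancel h1)

theorem exists_pow_of_mem_pGroup {p : ℕ} {S : Subgroup G} (hS : IsPGroup p S) {s : G}
    (hs : s ∈ S) : ∃ k : ℕ, s ^ p ^ k = 1 := by
  obtain ⟨k, hk⟩ := hS ⟨s, hs⟩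
  exact ⟨k, by simpa using congrArg Subtype.val hk⟩

theorem tight_core [Finite G] {K₁ K₂ : Subgroup G} (h2 : TwoFree K₂)
    (h12 : ∀ e ∈ K₁, e ∈ K₂ → (∃ k : ℕ, e ^ 2 ^ k = 1) → e = 1)
    (hconj : ∃ k : G, K₂ = cjs k K₁)
    {T : Subgroup G} (hT1 : T ≠ ⊥) (hTK : T ≤ K₂) (hTN : T ≤ Subgroup.normalizer (K₁ : Set G))
    (hTp : IsPGroup 2 T)
    {S : Subgroup G} (hTS : T ≤ S) (hS : S ≤ K₁ ⊔ T) (hSp : IsPGroup 2 S)
    (hSidx : ¬ 2 ∣ S.relIndex (K₁ ⊔ T)) :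
    T ⊓ K₁ = ⊥ ∧
    (∀ t ∈ T, ∀ r ∈ S ⊓ Subgroup.normalizer (T : Set G) ⊓ K₁, t * r = r * t) ∧
    T ⊔ (S ⊓ Subgroup.normalizer (T : Set G) ⊓ K₁) = S ⊓ Subgroup.normalizer (T : Set G) ∧
    S ⊓ Subgroup.normalizer (T : Set G) ⊓ K₁ ≤ Subgroup.normalizer (K₂ : Set G) ∧
    Nat.card T ≤ Nat.card ↥(S ⊓ Subgroup.normalizer (T : Set G) ⊓ K₁) ∧
    (Nat.card ↥(S ⊓ Subgroup.normalizer (T : Set G) ⊓ K₁) = Nat.card T →
      Nonempty (↥(S ⊓ Subgroup.normalizer (T : Set G) ⊓ K₁) ≃* T)) := by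
  classical
  have : Fact (Nat.Prime 2) := ⟨Nat.prime_two⟩
  set R : Subgroup G := S ⊓ Subgroup.normalizer (T : Set G) ⊓ K₁ with hR
  have hRS : R ≤ S := inf_le_left.trans inf_le_left
  have hRN : R ≤ Subgroup.normalizer (T : Set G) := inf_le_left.trans inf_le_right
  have hRK : R ≤ K₁ := inf_le_right
  have two : ∀ s ∈ S, ∃ k : ℕ, s ^ 2 ^ k = 1 := fun s hs => exists_pow_of_mem_pGroup hSp hs
  have c1 : T ⊓ K₁ = ⊥ := by
    rw [eq_bot_iff]
    rintro e ⟨heT, heK⟩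
    rw [Subgroup.mem_bot]
    exact h12 e heK (hTK heT) (two e (hTS heT))
  have c2 : ∀ t ∈ T, ∀ r ∈ R, t * r = r * t := by
    intro t ht r hr
    have h1 : t * r * t⁻¹ * r⁻¹ ∈ T ⊓ K₁ := by
      refine Subgroup.mem_inf.mpr ⟨?_, ?_⟩
      · have h3 : r * t⁻¹ * r⁻¹ ∈ T :=
          (Subgroup.mem_normalizer_iff.mp (hRN hr) t⁻¹).mp (inv_mem ht)
        have e : t * r * t⁻¹ * r⁻¹ = t * (r * t⁻¹ * r⁻¹) := by group
        rw [e]; exact mul_mem ht h3
      · have h3 : t * r * t⁻¹ ∈ K₁ := (Subgroup.mem_normalizer_iff.mp (hTN ht) r).mp (hRK hr)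
        exact mul_mem h3 (inv_mem (hRK hr))
    rw [c1, Subgroup.mem_bot] at h1
    calc t * r = (t * r * t⁻¹ * r⁻¹) * (r * t) := by group
      _ = r * t := by rw [h1, one_mul]
  have hdec : ∀ x ∈ S, ∃ q ∈ K₁, ∃ t ∈ T, x = q * t ∧ q ∈ S := by
    intro x hx
    have hx' : x ∈ ((K₁ ⊔ T : Subgroup G) : Set G) := hS hx
    rw [Subgroup.coe_mul_of_right_le_normalizer_left K₁ T hTN] at hx'
    obtain ⟨q, hq, t, ht, rfl⟩ := hx'
    refine ⟨q, hq, t, ht, rfl, ?_⟩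
    have e : q = q * t * t⁻¹ := by group
    rw [e]; exact mul_mem hx (inv_mem (hTS ht))
  have c3 : T ⊔ R = S ⊓ Subgroup.normalizer (T : Set G) := by
    apply le_antisymm
    · exact sup_le (le_inf hTS Subgroup.le_normalizer) inf_le_left
    · rintro x ⟨hxS, hxN⟩
      obtain ⟨q, hq, t, ht, rfl, hqS⟩ := hdec x hxS
      have hqN : q ∈ Subgroup.normalizer (T : Set G) := by
        have e : q = q * t * t⁻¹ := by group
        rw [e]; exact mul_mem hxN (inv_mem (Subgroup.le_normalizer ht))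
      exact mul_mem (Subgroup.mem_sup_right
        (Subgroup.mem_inf.mpr ⟨Subgroup.mem_inf.mpr ⟨hqS, hqN⟩, hq⟩)) (Subgroup.mem_sup_left ht)
  obtain ⟨e₀, he₀T, he₀⟩ : ∃ e ∈ T, e ≠ 1 := by
    by_contra hcon
    push Not at hcon
    apply hT1
    rw [eq_bot_iff]
    intro e he
    rw [Subgroup.mem_bot]; exact hcon e he
  have c4 : R ≤ Subgroup.normalizer (K₂ : Set G) := by
    intro r hr
    apply h2 e₀ (hTK he₀T) he₀ (two e₀ (hTS he₀T)) r
    have e : r * e₀ * r⁻¹ = e₀ := by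
      rw [← c2 e₀ he₀T r hr]; group
    rw [e]; exact hTK he₀T
  have c4' : ∀ s ∈ S, s ∈ K₁ → s ∈ Subgroup.normalizer (K₂ : Set G) →
      s ∈ Subgroup.centralizer (T : Set G) := by
    intro s hsS hsK hsN
    rw [Subgroup.mem_centralizer_iff]
    intro t ht
    have h1 : s * t * s⁻¹ * t⁻¹ = 1 := by
      apply h12
      · have h3 : t * s⁻¹ * t⁻¹ ∈ K₁ :=
          (Subgroup.mem_normalizer_iff.mp (hTN ht) s⁻¹).mp (inv_mem hsK)
        have e : s * t * s⁻¹ * t⁻¹ = s * (t * s⁻¹ * t⁻¹) := by group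
        rw [e]; exact mul_mem hsK h3
      · have h3 : s * t * s⁻¹ ∈ K₂ := (Subgroup.mem_normalizer_iff.mp hsN t).mp (hTK ht)
        exact mul_mem h3 (inv_mem (hTK ht))
      · exact two _ (mul_mem (mul_mem (mul_mem hsS (hTS ht)) (inv_mem hsS)) (inv_mem (hTS ht)))
    calc t * s = (s * t * s⁻¹ * t⁻¹)⁻¹ * (s * t) := by group
      _ = s * t := by rw [h1, inv_one, one_mul]
  have hTpos : 0 < Nat.card T := Nat.card_pos
  have hRpos : 0 < Nat.card R := Nat.card_pos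
  have hRp : IsPGroup 2 R := hSp.to_le hRS
  by_cases hA : S ≤ Subgroup.normalizer (T : Set G)
  · have hSN : S ⊓ Subgroup.normalizer (T : Set G) = S := inf_eq_left.mpr hA
    have hTR : T ⊓ R = ⊥ := by
      rw [eq_bot_iff]; exact (inf_le_inf_left T hRK).trans c1.le
    have hcS : Nat.card S = Nat.card T * Nat.card R := by
      have h := card_sup_of_le_normalizer hRN hTR
      rw [c3, hSN] at h
      exact h
    have hcK : Nat.card ↥(K₁ ⊔ T) = Nat.card K₁ * Nat.card T :=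
      card_sup_of_le_normalizer hTN (by rw [inf_comm]; exact c1)
    have h3 := card_mul_relIndex' hS
    have h4 := card_mul_relIndex' hRK
    have hidxR : R.relIndex K₁ = S.relIndex (K₁ ⊔ T) := by
      have h6 : Nat.card T * Nat.card R * S.relIndex (K₁ ⊔ T) =
          Nat.card T * Nat.card R * R.relIndex K₁ := by
        calc Nat.card T * Nat.card R * S.relIndex (K₁ ⊔ T)
            = Nat.card S * S.relIndex (K₁ ⊔ T) := by rw [hcS]
          _ = Nat.card ↥(K₁ ⊔ T) := h3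
          _ = Nat.card K₁ * Nat.card T := hcK
          _ = (Nat.card R * R.relIndex K₁) * Nat.card T := by rw [h4]
          _ = Nat.card T * Nat.card R * R.relIndex K₁ := by ring
      exact (Nat.eq_of_mul_eq_mul_left (Nat.mul_pos hTpos hRpos) h6).symm
    have hRidx : ¬ 2 ∣ R.relIndex K₁ := by rw [hidxR]; exact hSidx
    obtain ⟨k, hk⟩ := hconj
    have hRk : cjs k R ≤ K₂ := by rw [hk]; exact cjs_mono hRK
    have hRkidx : ¬ 2 ∣ (cjs k R).relIndex K₂ := by rw [hk, relIndex_cjs]; exact hRidx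
    refine ⟨c1, c2, c3, c4, ?_, ?_⟩
    · obtain ⟨m, -, hm⟩ := exists_conj_le_of_relIndex (isPGroup_cjs hRp k) hRkidx hTp hTK
      have h7 := card_le_of_conj_mem hm
      rwa [card_cjs] at h7
    · intro hcard
      have h5 := card_mul_relIndex' hTK
      have hK : Nat.card K₂ = Nat.card K₁ := by rw [hk, card_cjs]
      have hTidx : T.relIndex K₂ = R.relIndex K₁ := by
        have h8 : Nat.card T * T.relIndex K₂ = Nat.card T * R.relIndex K₁ := by
          rw [h5, hK, ← h4, hcard]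
        exact Nat.eq_of_mul_eq_mul_left hTpos h8
      obtain ⟨m, -, hm⟩ := exists_conj_eq_of_relIndex (isPGroup_cjs hRp k) hRk hRkidx hTp hTK
        (by rw [hTidx]; exact hRidx)
      have e1 : R.map (MulAut.conj (k * m)⁻¹).toMonoidHom = T := by
        rw [← hm, ← cjs_mul]; rfl
      exact ⟨((MulAut.conj (k * m)⁻¹).subgroupMap R).trans (MulEquiv.subgroupCongr e1)⟩
  · set M : Subgroup G := S ⊓ Subgroup.normalizer (T : Set G) with hM
    have hMS : M ≤ S := inf_le_left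
    have hMne : M ≠ S := by
      intro h
      apply hA
      rw [← h]; exact inf_le_right
    have hlt := card_lt_card_inf_normalizer hSp hMS hMne
    obtain ⟨x, hxSN, hxM⟩ : ∃ x ∈ S ⊓ Subgroup.normalizer (M : Set G), x ∉ M := by
      by_contra hcon
      push Not at hcon
      have h9 : S ⊓ Subgroup.normalizer (M : Set G) ≤ M := fun y hy => hcon y hy
      exact absurd (Subgroup.card_le_of_le h9) (not_le.mpr hlt)
    have hxS : x ∈ S := hxSN.1
    have hxNM : x ∈ Subgroup.normalizer (M : Set G) := hxSN.2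
    have hxNT : x ∉ Subgroup.normalizer (T : Set G) := fun h => hxM (Subgroup.mem_inf.mpr ⟨hxS, h⟩)
    have hTM : T ≤ M := le_inf hTS Subgroup.le_normalizer
    have star : ∀ t ∈ T, x * t * x⁻¹ ∈ T → t = 1 := by
      intro t ht hxt
      by_contra hne
      have hxK : x ∈ Subgroup.normalizer (K₂ : Set G) :=
        h2 t (hTK ht) hne (two t (hTS ht)) x (hTK hxt)
      obtain ⟨q, hq, t₁, ht₁, hxq, hqS⟩ := hdec x hxS
      have hqK : q ∈ Subgroup.normalizer (K₂ : Set G) := by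
        have e : q = x * t₁⁻¹ := by rw [hxq]; group
        rw [e]; exact mul_mem hxK (inv_mem (Subgroup.le_normalizer (hTK ht₁)))
      have hqC := c4' q hqS hq hqK
      apply hxNT
      rw [hxq]
      exact mul_mem (Subgroup.centralizer_le_normalizer (T : Set G) hqC) (Subgroup.le_normalizer ht₁)
    have key : ∀ t : T, ∃ r : R, ∃ t' : G, t' ∈ T ∧ x * (t : G) * x⁻¹ = t' * (r : G) := by
      intro t
      have h1 : x * (t : G) * x⁻¹ ∈ M := (Subgroup.mem_normalizer_iff.mp hxNM _).mp (hTM t.2)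
      have h3 : x * (t : G) * x⁻¹ ∈ ((T ⊔ R : Subgroup G) : Set G) := by rw [c3]; exact h1
      rw [Subgroup.coe_mul_of_right_le_normalizer_left T R hRN] at h3
      obtain ⟨t', ht', r, hr, e⟩ := h3
      exact ⟨⟨r, hr⟩, t', ht', e.symm⟩
    choose f hf using key
    have uniq : ∀ a ∈ T, ∀ a' ∈ T, ∀ r ∈ R, ∀ r' ∈ R, a * r = a' * r' → r = r' := by
      intro a ha a' ha' r hr r' hr' h
      have h1 : a'⁻¹ * a = r' * r⁻¹ := by
        calc a'⁻¹ * a = a'⁻¹ * (a * r) * r⁻¹ := by group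
          _ = a'⁻¹ * (a' * r') * r⁻¹ := by rw [h]
          _ = r' * r⁻¹ := by group
      have h3 : r' * r⁻¹ ∈ T ⊓ K₁ :=
        Subgroup.mem_inf.mpr
          ⟨by rw [← h1]; exact mul_mem (inv_mem ha') ha, mul_mem (hRK hr') (inv_mem (hRK hr))⟩
      rw [c1, Subgroup.mem_bot] at h3
      calc r = (r' * r⁻¹)⁻¹ * r' := by group
        _ = r' := by rw [h3, inv_one, one_mul]
    have hinj : Function.Injective f := by
      intro t₁ t₂ h
      obtain ⟨a₁, ha₁, e₁⟩ := hf t₁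
      obtain ⟨a₂, ha₂, e₂⟩ := hf t₂
      have h1 : x * ((t₁ : G) * (t₂ : G)⁻¹) * x⁻¹ = a₁ * a₂⁻¹ := by
        calc x * ((t₁ : G) * (t₂ : G)⁻¹) * x⁻¹
            = (x * (t₁ : G) * x⁻¹) * (x * (t₂ : G) * x⁻¹)⁻¹ := by group
          _ = (a₁ * (f t₁ : G)) * (a₂ * (f t₂ : G))⁻¹ := by rw [e₁, e₂]
          _ = a₁ * a₂⁻¹ := by rw [h]; group
      have h3 := star _ (mul_mem t₁.2 (inv_mem t₂.2))
        (by rw [h1]; exact mul_mem ha₁ (inv_mem ha₂))
      apply Subtype.ext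
      calc (t₁ : G) = ((t₁ : G) * (t₂ : G)⁻¹) * t₂ := by group
        _ = t₂ := by rw [h3, one_mul]
    refine ⟨c1, c2, c3, c4, Nat.card_le_card_of_injective f hinj, ?_⟩
    intro hcard
    have hmul : ∀ t₁ t₂ : T, f (t₁ * t₂) = f t₁ * f t₂ := by
      intro t₁ t₂
      obtain ⟨a₁, ha₁, e₁⟩ := hf t₁
      obtain ⟨a₂, ha₂, e₂⟩ := hf t₂
      obtain ⟨a₃, ha₃, e₃⟩ := hf (t₁ * t₂)
      apply Subtype.ext
      have h1 : a₃ * (f (t₁ * t₂) : G) = (a₁ * a₂) * ((f t₁ : G) * (f t₂ : G)) := by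
        calc a₃ * (f (t₁ * t₂) : G) = x * ((t₁ : G) * (t₂ : G)) * x⁻¹ := by rw [← e₃]; rfl
          _ = (x * (t₁ : G) * x⁻¹) * (x * (t₂ : G) * x⁻¹) := by group
          _ = (a₁ * (f t₁ : G)) * (a₂ * (f t₂ : G)) := by rw [e₁, e₂]
          _ = a₁ * ((f t₁ : G) * a₂) * (f t₂ : G) := by group
          _ = a₁ * (a₂ * (f t₁ : G)) * (f t₂ : G) := by rw [← c2 a₂ ha₂ _ (f t₁).2]
          _ = (a₁ * a₂) * ((f t₁ : G) * (f t₂ : G)) := by group
      exact uniq a₃ ha₃ (a₁ * a₂) (mul_mem ha₁ ha₂) _ (f (t₁ * t₂)).2 _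
        (mul_mem (f t₁).2 (f t₂).2) h1
    have hbij : Function.Bijective f :=
      (Nat.bijective_iff_injective_and_card f).mpr ⟨hinj, hcard.symm⟩
    exact ⟨(MulEquiv.ofBijective (MonoidHom.mk' f hmul) hbij).symm⟩

end Cfsg.Agent.Helper12
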