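import Cfsg.Agent.Helper12.AlpInd
import Cfsg.Agent.Helper12.SecStep
import Cfsg.Agent.Helper12.Goldschmidt
import Cfsg.Agent.Helper12.PRes
import Cfsg.Agent.Helper12.NPS
import Cfsg.Agent.Helper12.Tight

/-!
Control of strong fusion lifted from a normal subgroup: tools.
-/

namespace Cfsg.Agent.Helper12

open scoped commutatorElement

variable {G : Type*} [Group G]

/-- `N_N(V)` controls strong fusion in `Q` with respect to `N`, elementwise. -/
def Ctl (Q N V : Subgroup G) : Prop :=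
  ∀ A : Subgroup G, A ≤ Q → ∀ n ∈ N, (∀ a ∈ A, n * a * n⁻¹ ∈ Q) →
    ∃ h ∈ N, h ∈ Subgroup.normalizer (V : Set G) ∧
      ∃ c ∈ N, c ∈ Subgroup.centralizer (A : Set G) ∧ n = h * c

theorem mem_normalizer_of_conj_mem_both {W : Subgroup G} {x : G}
    (h1 : ∀ w ∈ W, x * w * x⁻¹ ∈ W) (h2 : ∀ w ∈ W, x⁻¹ * w * x ∈ W) :
    x ∈ Subgroup.normalizer (W : Set G) := by
  rw [Subgroup.mem_normalizer_iff]
  intro w
  refine ⟨h1 w, fun hw => ?_⟩
  have := h2 _ hw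
  have e : x⁻¹ * (x * w * x⁻¹) * x = w := by group
  rwa [e] at this

theorem Ctl.conj {Q N V : Subgroup G} [hN : N.Normal] (h : Ctl Q N V) {y : G}
    (hy : y ∈ Subgroup.normalizer (Q : Set G)) : Ctl Q N (cjs y V) := by
  intro A hA n hn hnA
  have hA' : cjs y⁻¹ A ≤ Q := by
    intro a' ha'
    rw [mem_cjs_iff, inv_inv] at ha'
    have h1 := (Subgroup.mem_normalizer_iff.1 hy (y⁻¹ * a' * y)).1 (hA ha')
    have e : y * (y⁻¹ * a' * y) * y⁻¹ = a' := by group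
    rwa [e] at h1
  have hn' : y * n * y⁻¹ ∈ N := hN.conj_mem n hn y
  have hnA' : ∀ a' ∈ cjs y⁻¹ A, (y * n * y⁻¹) * a' * (y * n * y⁻¹)⁻¹ ∈ Q := by
    intro a' ha'
    rw [mem_cjs_iff, inv_inv] at ha'
    have h1 := hnA _ ha'
    have h2 := (Subgroup.mem_normalizer_iff.1 hy _).1 h1
    have e : y * (n * (y⁻¹ * a' * y) * n⁻¹) * y⁻¹ =
        (y * n * y⁻¹) * a' * (y * n * y⁻¹)⁻¹ := by group
    rwa [e] at h2
  obtain ⟨h', hh', hh'V, c', hc', hc'A, hnhc⟩ := h (cjs y⁻¹ A) hA' (y * n * y⁻¹) hn' hnA'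
  refine ⟨y⁻¹ * h' * y, ?_, ?_, y⁻¹ * c' * y, ?_, ?_, ?_⟩
  · have := hN.conj_mem h' hh' y⁻¹
    rwa [inv_inv] at this
  · rw [normalizer_cjs, mem_cjs_iff]
    have e : y * (y⁻¹ * h' * y) * y⁻¹ = h' := by group
    rw [e]; exact hh'V
  · have := hN.conj_mem c' hc' y⁻¹
    rwa [inv_inv] at this
  · rw [Subgroup.mem_centralizer_iff]
    intro a ha
    have ha' : y * a * y⁻¹ ∈ cjs y⁻¹ A := by
      rw [mem_cjs_iff, inv_inv]
      have e : y⁻¹ * (y * a * y⁻¹) * y = a := by group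
      rw [e]; exact ha
    have h1 := (Subgroup.mem_centralizer_iff.1 hc'A) _ ha'
    calc a * (y⁻¹ * c' * y) = y⁻¹ * (y * a * y⁻¹ * c') * y := by group
      _ = y⁻¹ * (c' * (y * a * y⁻¹)) * y := by rw [h1]
      _ = y⁻¹ * c' * y * a := by group
  · calc n = y⁻¹ * (y * n * y⁻¹) * y := by group
      _ = y⁻¹ * (h' * c') * y := by rw [hnhc]
      _ = y⁻¹ * h' * y * (y⁻¹ * c' * y) := by group

theorem Ctl.all {Q N : Subgroup G} {ι : Type*} (F : ι → Subgroup G) (hF : ∀ i, F i ≤ Q)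
    (hctl : ∀ i, Ctl Q N (F i)) (s : Finset ι) :
    ∀ A : Subgroup G, A ≤ Q → ∀ n ∈ N, (∀ a ∈ A, n * a * n⁻¹ ∈ Q) →
      ∃ h ∈ N, (∀ i ∈ s, h ∈ Subgroup.normalizer ((F i : Subgroup G) : Set G)) ∧
        ∃ c ∈ N, c ∈ Subgroup.centralizer (A : Set G) ∧ n = h * c := by
  classical
  induction s using Finset.induction_on with
  | empty =>
    intro A _ n hn _
    exact ⟨n, hn, by simp, 1, one_mem _, one_mem _, by simp⟩
  | insert i₀ s hi₀ ih =>
    intro A hA n hn hnA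
    obtain ⟨h, hh, hnorm, c, hc, hcA, hnhc⟩ := ih A hA n hn hnA
    have hB : A ⊔ (⨆ i ∈ s, F i) ≤ Q := sup_le hA (iSup₂_le fun i _ => hF i)
    have hhB : ∀ b ∈ A ⊔ (⨆ i ∈ s, F i), h * b * h⁻¹ ∈ Q := by
      have hle : A ⊔ (⨆ i ∈ s, F i) ≤ cjs h Q := by
        refine sup_le ?_ (iSup₂_le fun i hi => ?_)
        · intro a ha
          rw [mem_cjs_iff]
          have h1 := (Subgroup.mem_centralizer_iff.1 hcA) a ha
          have h2 := hnA a ha
          rw [hnhc] at h2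
          have e : h * c * a * (h * c)⁻¹ = h * (c * a) * c⁻¹ * h⁻¹ := by group
          rw [e, ← h1] at h2
          have e2 : h * (a * c) * c⁻¹ * h⁻¹ = h * a * h⁻¹ := by group
          rwa [e2] at h2
        · intro v hv
          rw [mem_cjs_iff]
          exact hF i ((Subgroup.mem_normalizer_iff.1 (hnorm i hi) v).1 hv)
      intro b hb
      exact mem_cjs_iff.1 (hle hb)
    obtain ⟨h', hh', hh'n, c', hc', hc'B, hhe⟩ := hctl i₀ _ hB h hh hhB
    have hh'eq : h' = h * c'⁻¹ := by rw [hhe]; group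
    refine ⟨h', hh', ?_, c' * c, mul_mem hc' hc, ?_, by rw [hnhc, hhe, mul_assoc]⟩
    · intro i hi
      rcases Finset.mem_insert.1 hi with rfl | hi
      · exact hh'n
      · rw [hh'eq]
        refine mul_mem (hnorm i hi) (inv_mem ?_)
        apply Subgroup.centralizer_le_normalizer
        refine Subgroup.centralizer_le ?_ hc'B
        exact fun v hv => (le_sup_right : (⨆ i ∈ s, F i) ≤ A ⊔ (⨆ i ∈ s, F i))
          ((le_iSup₂ (f := fun i (_ : i ∈ s) => F i) i hi) hv)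
    · refine mul_mem ?_ hcA
      exact Subgroup.centralizer_le
        (fun a ha => (le_sup_left : A ≤ A ⊔ (⨆ i ∈ s, F i)) ha) hc'B

theorem exists_mem_normalizer_not_mem_of_not_le [Finite G] {p : ℕ} [Fact p.Prime]
    {S U W : Subgroup G} (hS : IsPGroup p S) (hUS : U ≤ S) (hWS : W ≤ S)
    (hUW : U ≤ Subgroup.normalizer (W : Set G)) (hWU : ¬ W ≤ U) :
    ∃ w ∈ W, w ∈ Subgroup.normalizer (U : Set G) ∧ w ∉ U := by
  have hS' : IsPGroup p ↥(U ⊔ W) := hS.to_le (sup_le hUS hWS)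
  have hne : U ≠ U ⊔ W := by
    intro h
    apply hWU
    rw [h]; exact le_sup_right
  have hlt := card_lt_card_inf_normalizer hS' (le_sup_left : U ≤ U ⊔ W) hne
  have hex : ∃ y ∈ (U ⊔ W) ⊓ Subgroup.normalizer (U : Set G), y ∉ U := by
    by_contra hcon
    push Not at hcon
    have := Subgroup.card_le_of_le
      (show (U ⊔ W) ⊓ Subgroup.normalizer (U : Set G) ≤ U from hcon)
    omega
  obtain ⟨y, hy, hyU⟩ := hex
  have hy1 : y ∈ ((U ⊔ W : Subgroup G) : Set G) := (Subgroup.mem_inf.1 hy).1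
  rw [Subgroup.coe_mul_of_left_le_normalizer_right U W hUW] at hy1
  obtain ⟨d, hd, w, hw, rfl⟩ := hy1
  refine ⟨w, hw, ?_, fun hwU => hyU (mul_mem hd hwU)⟩
  have : w = d⁻¹ * (d * w) := by group
  rw [this]
  exact mul_mem (inv_mem (Subgroup.le_normalizer hd)) (Subgroup.mem_inf.1 hy).2

theorem relIndex_inf_of_normalized [Finite G] {p : ℕ} [Fact p.Prime] {H K P' : Subgroup G}
    (hP' : IsPGroup p P') (hidx : ¬ p ∣ P'.relIndex H) (hKH : K ≤ H)
    (hn : ∀ x ∈ H, cjs x K = K) : ¬ p ∣ (P' ⊓ K).relIndex K := by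
  obtain ⟨S, -, hSK, hSp, hSidx⟩ := exists_sylow_ge_of_le (p := p) (R := (⊥ : Subgroup G))
    (H := K) IsPGroup.of_bot bot_le
  obtain ⟨m, hm, hmq⟩ := exists_conj_le_of_relIndex hP' hidx hSp (hSK.trans hKH)
  have hle : cjs m⁻¹ S ≤ P' ⊓ K := by
    intro b hb
    refine Subgroup.mem_inf.2 ⟨?_, ?_⟩
    · rw [mem_cjs_iff, inv_inv] at hb
      have := hmq _ hb
      have e : m * (m⁻¹ * b * m) * m⁻¹ = b := by group
      rwa [e] at this
    · have := cjs_mono (x := m⁻¹) hSK hb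
      rwa [hn m⁻¹ (inv_mem hm)] at this
  have hrel : (cjs m⁻¹ S).relIndex K = S.relIndex K := by
    have := relIndex_cjs m⁻¹ S K
    rwa [hn m⁻¹ (inv_mem hm)] at this
  intro h
  apply hSidx
  rw [← hrel]
  exact dvd_trans h (Subgroup.relIndex_dvd_of_le_left _ hle)

theorem frattini_rel [Finite G] {p : ℕ} [Fact p.Prime] {H K T : Subgroup G}
    (hn : ∀ x ∈ H, cjs x K = K) (hTK : T ≤ K) (hTp : IsPGroup p T)
    (hidx : ¬ p ∣ T.relIndex K) {x : G} (hx : x ∈ H) :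
    ∃ k ∈ K, ∃ y ∈ Subgroup.normalizer (T : Set G), x = k * y := by
  have hxi := hn x⁻¹ (inv_mem hx)
  have h1 : cjs x⁻¹ T ≤ K := by
    have := cjs_mono (x := x⁻¹) hTK
    rwa [hxi] at this
  have h2 : ¬ p ∣ (cjs x⁻¹ T).relIndex K := by
    have := relIndex_cjs x⁻¹ T K
    rw [hxi] at this
    rw [this]; exact hidx
  obtain ⟨m, hm, hmT⟩ := exists_conj_eq_of_relIndex hTp hTK hidx (isPGroup_cjs hTp x⁻¹) h1 h2
  refine ⟨m⁻¹, inv_mem hm, m * x, ?_, by group⟩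
  apply mem_normalizer_of_cjs_eq
  rw [cjs_mul, hmT, cjs_cjs_inv]

/-- Elements of `N_G(D) ∩ N_G(E)` acting on `E` like an element of `W` and trivially on
`D / E`. -/
def stabSub (D E W : Subgroup G) : Subgroup G where
  carrier := {k | k ∈ Subgroup.normalizer (D : Set G) ∧ k ∈ Subgroup.normalizer (E : Set G) ∧
    (∃ w ∈ W, ∀ e ∈ E, k * e * k⁻¹ = w * e * w⁻¹) ∧ ∀ d ∈ D, k * d * k⁻¹ * d⁻¹ ∈ E}
  one_mem' := ⟨one_mem _, one_mem _, ⟨1, one_mem _, fun e _ => by simp⟩,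
    fun d _ => by simp [one_mem]⟩
  mul_mem' := by
    rintro k₁ k₂ ⟨h1D, h1E, ⟨w₁, hw₁, h1w⟩, h1c⟩ ⟨h2D, h2E, ⟨w₂, hw₂, h2w⟩, h2c⟩
    refine ⟨mul_mem h1D h2D, mul_mem h1E h2E, ⟨w₁ * w₂, mul_mem hw₁ hw₂, fun e he => ?_⟩,
      fun d hd => ?_⟩
    · have he2 : k₂ * e * k₂⁻¹ ∈ E := (Subgroup.mem_normalizer_iff.1 h2E e).1 he
      calc k₁ * k₂ * e * (k₁ * k₂)⁻¹ = k₁ * (k₂ * e * k₂⁻¹) * k₁⁻¹ := by group
        _ = w₁ * (k₂ * e * k₂⁻¹) * w₁⁻¹ := h1w _ he2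
        _ = w₁ * (w₂ * e * w₂⁻¹) * w₁⁻¹ := by rw [h2w e he]
        _ = w₁ * w₂ * e * (w₁ * w₂)⁻¹ := by group
    · have h1 : k₁ * (k₂ * d * k₂⁻¹ * d⁻¹) * k₁⁻¹ ∈ E :=
        (Subgroup.mem_normalizer_iff.1 h1E _).1 (h2c d hd)
      have h2 := mul_mem h1 (h1c d hd)
      have e : k₁ * (k₂ * d * k₂⁻¹ * d⁻¹) * k₁⁻¹ * (k₁ * d * k₁⁻¹ * d⁻¹) =
          k₁ * k₂ * d * (k₁ * k₂)⁻¹ * d⁻¹ := by group
      rwa [e] at h2
  inv_mem' := by
    rintro k ⟨hD, hE, ⟨w, hw, hkw⟩, hc⟩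
    refine ⟨inv_mem hD, inv_mem hE, ⟨w⁻¹, inv_mem hw, fun e he => ?_⟩, fun d hd => ?_⟩
    · have he1 : k⁻¹ * e * k ∈ E := by
        have := (Subgroup.mem_normalizer_iff.1 (inv_mem hE) e).1 he
        rwa [inv_inv] at this
      have h1 := hkw _ he1
      have e1 : k * (k⁻¹ * e * k) * k⁻¹ = e := by group
      rw [e1] at h1
      rw [inv_inv, inv_inv]
      calc k⁻¹ * e * k = w⁻¹ * (w * (k⁻¹ * e * k) * w⁻¹) * w := by group
        _ = w⁻¹ * e * w := by rw [← h1]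
    · have hd1 : k⁻¹ * d * k ∈ D := by
        have := (Subgroup.mem_normalizer_iff.1 (inv_mem hD) d).1 hd
        rwa [inv_inv] at this
      have h1 := inv_mem (hc _ hd1)
      have e1 : (k * (k⁻¹ * d * k) * k⁻¹ * (k⁻¹ * d * k)⁻¹)⁻¹ = k⁻¹ * d * k⁻¹⁻¹ * d⁻¹ := by
        group
      rwa [e1] at h1

theorem stabSub_conj {D E W : Subgroup G} {x k : G}
    (hxD : x ∈ Subgroup.normalizer (D : Set G)) (hxE : x ∈ Subgroup.normalizer (E : Set G))
    (hact : ∃ m ∈ Subgroup.normalizer (W : Set G), ∀ e ∈ E, x * e * x⁻¹ = m * e * m⁻¹)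
    (hk : k ∈ stabSub D E W) : x * k * x⁻¹ ∈ stabSub D E W := by
  obtain ⟨hD, hE, ⟨w, hw, hkw⟩, hc⟩ := hk
  obtain ⟨m, hm, hxm⟩ := hact
  refine ⟨mul_mem (mul_mem hxD hD) (inv_mem hxD), mul_mem (mul_mem hxE hE) (inv_mem hxE),
    ⟨m * w * m⁻¹, (Subgroup.mem_normalizer_iff.1 hm w).1 hw, fun e he => ?_⟩, fun d hd => ?_⟩
  · have he1 : x⁻¹ * e * x ∈ E := by
      have := (Subgroup.mem_normalizer_iff.1 (inv_mem hxE) e).1 he
      rwa [inv_inv] at this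
    have h1 := hxm _ he1
    have e1 : x * (x⁻¹ * e * x) * x⁻¹ = e := by group
    rw [e1] at h1
    have h2 : x⁻¹ * e * x = m⁻¹ * e * m := by
      calc x⁻¹ * e * x = m⁻¹ * (m * (x⁻¹ * e * x) * m⁻¹) * m := by group
        _ = m⁻¹ * e * m := by rw [← h1]
    have he2 : k * (x⁻¹ * e * x) * k⁻¹ ∈ E := (Subgroup.mem_normalizer_iff.1 hE _).1 he1
    calc x * k * x⁻¹ * e * (x * k * x⁻¹)⁻¹ = x * (k * (x⁻¹ * e * x) * k⁻¹) * x⁻¹ := by group
      _ = m * (k * (x⁻¹ * e * x) * k⁻¹) * m⁻¹ := hxm _ he2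
      _ = m * (w * (x⁻¹ * e * x) * w⁻¹) * m⁻¹ := by rw [hkw _ he1]
      _ = m * (w * (m⁻¹ * e * m) * w⁻¹) * m⁻¹ := by rw [h2]
      _ = m * w * m⁻¹ * e * (m * w * m⁻¹)⁻¹ := by group
  · have hd1 : x⁻¹ * d * x ∈ D := by
      have := (Subgroup.mem_normalizer_iff.1 (inv_mem hxD) d).1 hd
      rwa [inv_inv] at this
    have h1 := (Subgroup.mem_normalizer_iff.1 hxE _).1 (hc _ hd1)
    have e1 : x * (k * (x⁻¹ * d * x) * k⁻¹ * (x⁻¹ * d * x)⁻¹) * x⁻¹ =
        x * k * x⁻¹ * d * (x * k * x⁻¹)⁻¹ * d⁻¹ := by group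
    rwa [e1] at h1

theorem mem_stabSub_of_mem {D W : Subgroup G} (hDW : D ≤ Subgroup.normalizer (W : Set G))
    {w : G} (hw : w ∈ W) (hwD : w ∈ Subgroup.normalizer (D : Set G)) :
    w ∈ stabSub D (D ⊓ W) W := by
  have hwW : w ∈ Subgroup.normalizer (W : Set G) := Subgroup.le_normalizer hw
  refine ⟨hwD, ?_, ⟨w, hw, fun e _ => rfl⟩, fun d hd => Subgroup.mem_inf.2 ⟨?_, ?_⟩⟩
  · rw [Subgroup.mem_normalizer_iff]
    intro e
    rw [Subgroup.mem_inf, Subgroup.mem_inf, ← Subgroup.mem_normalizer_iff.1 hwD e,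
      ← Subgroup.mem_normalizer_iff.1 hwW e]
  · exact mul_mem ((Subgroup.mem_normalizer_iff.1 hwD d).1 hd) (inv_mem hd)
  · have h1 : d * w⁻¹ * d⁻¹ ∈ W := (Subgroup.mem_normalizer_iff.1 (hDW hd) _).1 (inv_mem hw)
    have e : w * d * w⁻¹ * d⁻¹ = w * (d * w⁻¹ * d⁻¹) := by group
    rw [e]; exact mul_mem hw h1

theorem pow_act_eq {E : Subgroup G} {k w : G} (hkE : k ∈ Subgroup.normalizer (E : Set G))
    (hkw : ∀ e ∈ E, k * e * k⁻¹ = w * e * w⁻¹) (j : ℕ) :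
    ∀ e ∈ E, k ^ j * e * (k ^ j)⁻¹ = w ^ j * e * (w ^ j)⁻¹ := by
  induction j with
  | zero => intro e _; simp
  | succ j ih =>
    intro e he
    have he1 : k ^ j * e * (k ^ j)⁻¹ ∈ E :=
      (Subgroup.mem_normalizer_iff.1 (pow_mem hkE j) e).1 he
    calc k ^ (j + 1) * e * (k ^ (j + 1))⁻¹ = k * (k ^ j * e * (k ^ j)⁻¹) * k⁻¹ := by
          rw [pow_succ']; group
      _ = w * (k ^ j * e * (k ^ j)⁻¹) * w⁻¹ := hkw _ he1
      _ = w * (w ^ j * e * (w ^ j)⁻¹) * w⁻¹ := by rw [ih e he]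
      _ = w ^ (j + 1) * e * (w ^ (j + 1))⁻¹ := by rw [pow_succ']; group

theorem stabSub_coprime_centralizes [Finite G] {p : ℕ} [Fact p.Prime] {D E W : Subgroup G}
    (hW : IsPGroup p W) (hE : IsPGroup p E) {k : G} (hk : k ∈ stabSub D E W)
    (hcop : (orderOf k).Coprime p) : k ∈ Subgroup.centralizer (D : Set G) := by
  obtain ⟨w, hw, hkw⟩ := hk.2.2.1
  obtain ⟨a, ha⟩ := exists_pow_of_mem_pGroup hW hw
  obtain ⟨b, hb⟩ := hE.exists_card_eq
  have hk1 : k ^ p ^ a ∈ stabSub D E W := pow_mem hk _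
  have hcE : ∀ e ∈ E, (k ^ p ^ a) * e = e * (k ^ p ^ a) := by
    intro e he
    have h1 := pow_act_eq hk.2.1 hkw (p ^ a) e he
    rw [ha] at h1
    have h2 : k ^ p ^ a * e * (k ^ p ^ a)⁻¹ = e := by rw [h1]; simp
    calc k ^ p ^ a * e = (k ^ p ^ a * e * (k ^ p ^ a)⁻¹) * k ^ p ^ a := by group
      _ = e * k ^ p ^ a := by rw [h2]
  have hpow : (k ^ p ^ a) ^ p ^ b ∈ Subgroup.centralizer (D : Set G) := by
    rw [Subgroup.mem_centralizer_iff]
    intro d hd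
    have hcomm : ⁅k ^ p ^ a, d⁆ ∈ E := by
      have := hk1.2.2.2 d hd
      rwa [← commutatorElement_def] at this
    have hst := pow_conj_of_stab (N := E) (e := k ^ p ^ a) (m := d) hcE hcomm (p ^ b)
    have hone : ⁅k ^ p ^ a, d⁆ ^ p ^ b = 1 := by
      have := pow_card_eq_one' (G := ↥E) (x := ⟨_, hcomm⟩)
      rw [hb] at this
      exact congrArg Subtype.val this
    rw [hone, one_mul, mul_inv_eq_iff_eq_mul] at hst
    exact hst.symm
  have hcop' : (p ^ a * p ^ b).Coprime (orderOf k) := by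
    rw [← pow_add]
    exact Nat.Coprime.pow_left _ hcop.symm
  obtain ⟨t, ht⟩ := exists_pow_eq_self_of_coprime hcop'
  have hkeq : k = ((k ^ p ^ a) ^ p ^ b) ^ t := by
    rw [← pow_mul k]; exact ht.symm
  rw [hkeq]
  exact pow_mem hpow t

theorem pRes_stabSub_le [Finite G] {p : ℕ} [Fact p.Prime] {D E W : Subgroup G}
    (hW : IsPGroup p W) (hE : IsPGroup p E) :
    (Cfsg.pResidual p ↥(stabSub D E W)).map (stabSub D E W).subtype ≤
      Subgroup.centralizer (D : Set G) := by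
  rw [Subgroup.map_le_iff_le_comap]
  unfold Cfsg.pResidual
  rw [Subgroup.closure_le]
  intro g hg
  have hg' : (orderOf (g : G)).Coprime p := by rw [Subgroup.orderOf_coe]; exact hg
  show (g : G) ∈ Subgroup.centralizer (D : Set G)
  exact stabSub_coprime_centralizes hW hE g.2 hg'

/-- The relation "conjugation by `g` on `A` is induced by `N_G(W)`". -/
def NRel (W : Subgroup G) (A : Set G) (g : G) : Prop :=
  ∃ c ∈ Subgroup.centralizer A, ∃ h ∈ Subgroup.normalizer (W : Set G), g = c * h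

theorem base_step [Finite G] {p : ℕ} [Fact p.Prime] (P : Sylow p G) {N W : Subgroup G}
    [hN : N.Normal]
    (hWQ : W ≤ (P : Subgroup G) ⊓ N) (hPW : (P : Subgroup G) ≤ Subgroup.normalizer (W : Set G))
    (hD4 : ∀ A : Subgroup G, A ≤ (P : Subgroup G) ⊓ N → ∀ g : G,
      (∀ a ∈ A, g * a * g⁻¹ ∈ (P : Subgroup G) ⊓ N) →
      ∃ m ∈ Subgroup.normalizer (W : Set G), ∃ c ∈ Subgroup.centralizer (A : Set G), g = m * c)
    {U : Subgroup G} (hUP : U ≤ (P : Subgroup G))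
    (hidx : ¬ p ∣ ((P : Subgroup G) ⊓ Subgroup.normalizer (U : Set G)).relIndex
        (Subgroup.normalizer (U : Set G)))
    (IH : ∀ T' : Subgroup G, T' ≤ (P : Subgroup G) → Nat.card U < Nat.card T' →
        ∀ g : G, cj g (T' : Set G) ⊆ (P : Subgroup G) → NRel W T' g)
    {x : G} (hx : x ∈ Subgroup.normalizer (U : Set G)) : NRel W U x := by
  have hPp : IsPGroup p (P : Subgroup G) := P.isPGroup'
  have hWP : W ≤ (P : Subgroup G) := hWQ.trans inf_le_left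
  have hWN : W ≤ N := hWQ.trans inf_le_right
  have hconjQ : ∀ y ∈ Subgroup.normalizer (U : Set G), ∀ a ∈ U, a ∈ N →
      y * a * y⁻¹ ∈ (P : Subgroup G) ⊓ N := fun y hy a haU haN =>
    Subgroup.mem_inf.2 ⟨hUP ((Subgroup.mem_normalizer_iff.1 hy a).1 haU), hN.conj_mem a haN y⟩
  by_cases hWU : W ≤ U
  · obtain ⟨m, hm, c, hc, rfl⟩ := hD4 W hWQ x (fun a ha => hconjQ x hx a (hWU ha) (hWN ha))
    exact ⟨1, one_mem _, m * c, mul_mem hm (Subgroup.centralizer_le_normalizer _ hc), by simp⟩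
  · have hEQ : U ⊓ W ≤ (P : Subgroup G) ⊓ N := inf_le_right.trans hWQ
    have hkey : ∀ y ∈ Subgroup.normalizer (U : Set G), ∃ m ∈ Subgroup.normalizer (W : Set G),
        ∀ e ∈ U ⊓ W, y * e * y⁻¹ = m * e * m⁻¹ := by
      intro y hy
      obtain ⟨m, hm, c, hc, rfl⟩ := hD4 (U ⊓ W) hEQ y
        (fun a ha => hconjQ y hy a (Subgroup.mem_inf.1 ha).1 (hWN (Subgroup.mem_inf.1 ha).2))
      refine ⟨m, hm, fun e he => ?_⟩
      have h1 := (Subgroup.mem_centralizer_iff.1 hc) e he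
      calc m * c * e * (m * c)⁻¹ = m * (c * e) * c⁻¹ * m⁻¹ := by group
        _ = m * (e * c) * c⁻¹ * m⁻¹ := by rw [h1]
        _ = m * e * m⁻¹ := by group
    have hconjE : ∀ y ∈ Subgroup.normalizer (U : Set G), ∀ e ∈ U ⊓ W,
        y * e * y⁻¹ ∈ U ⊓ W := by
      intro y hy e he
      obtain ⟨m, hm, hme⟩ := hkey y hy
      refine Subgroup.mem_inf.2
        ⟨(Subgroup.mem_normalizer_iff.1 hy e).1 (Subgroup.mem_inf.1 he).1, ?_⟩
      rw [hme e he]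
      exact (Subgroup.mem_normalizer_iff.1 hm e).1 (Subgroup.mem_inf.1 he).2
    have hNE : Subgroup.normalizer (U : Set G) ≤
        Subgroup.normalizer ((U ⊓ W : Subgroup G) : Set G) := by
      intro y hy
      refine mem_normalizer_of_conj_mem_both (hconjE y hy) (fun e he => ?_)
      have := hconjE y⁻¹ (inv_mem hy) e he
      rwa [inv_inv] at this
    have hKH : stabSub U (U ⊓ W) W ≤ Subgroup.normalizer (U : Set G) := fun k hk => hk.1
    have hKconj : ∀ y ∈ Subgroup.normalizer (U : Set G), ∀ k ∈ stabSub U (U ⊓ W) W,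
        y * k * y⁻¹ ∈ stabSub U (U ⊓ W) W := fun y hy k hk =>
      stabSub_conj hy (hNE hy) (hkey y hy) hk
    have hKn : ∀ y ∈ Subgroup.normalizer (U : Set G),
        cjs y (stabSub U (U ⊓ W) W) = stabSub U (U ⊓ W) W := by
      intro y hy
      apply le_antisymm
      · intro b hb
        rw [mem_cjs_iff] at hb
        have := hKconj y⁻¹ (inv_mem hy) _ hb
        have e : y⁻¹ * (y * b * y⁻¹) * y⁻¹⁻¹ = b := by group
        rwa [e] at this
      · intro k hk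
        rw [mem_cjs_iff]
        exact hKconj y hy k hk
    obtain ⟨w₀, hw₀W, hw₀N, hw₀U⟩ := exists_mem_normalizer_not_mem_of_not_le hPp hUP hWP
      (hUP.trans hPW) hWU
    have hw₀K : w₀ ∈ stabSub U (U ⊓ W) W := mem_stabSub_of_mem (hUP.trans hPW) hw₀W hw₀N
    have hTidx : ¬ p ∣ ((P : Subgroup G) ⊓ stabSub U (U ⊓ W) W).relIndex
        (stabSub U (U ⊓ W) W) := by
      have := relIndex_inf_of_normalized (hPp.to_le inf_le_left) hidx hKH hKn
      rwa [inf_assoc, inf_of_le_right hKH] at this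
    have hTp : IsPGroup p ↥((P : Subgroup G) ⊓ stabSub U (U ⊓ W) W) := hPp.to_le inf_le_left
    obtain ⟨k, hk, y, hy, hxky⟩ := frattini_rel hKn inf_le_right hTp hTidx hx
    obtain ⟨s, hs, o, ho, hso⟩ := exists_mul_pRes_sub hTidx (inv_mem hk)
    have hoC : o ∈ Subgroup.centralizer (U : Set G) :=
      pRes_stabSub_le (hPp.to_le hWP) (hPp.to_le (inf_le_right.trans hWP)) ho
    have hsT : s ∈ (P : Subgroup G) ⊓ stabSub U (U ⊓ W) W := (Subgroup.mem_inf.1 hs).1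
    have hyU : y ∈ Subgroup.normalizer (U : Set G) := by
      have : y = k⁻¹ * x := by rw [hxky]; group
      rw [this]
      exact mul_mem (inv_mem (hKH hk)) hx
    have hy'T : s⁻¹ * y ∈ Subgroup.normalizer
        ((((P : Subgroup G) ⊓ stabSub U (U ⊓ W) W : Subgroup G)) : Set G) :=
      mul_mem (inv_mem (Subgroup.le_normalizer hsT)) hy
    have hy'U : s⁻¹ * y ∈ Subgroup.normalizer (U : Set G) :=
      mul_mem (inv_mem (hKH (Subgroup.mem_inf.1 hsT).2)) hyU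
    have hy'R : s⁻¹ * y ∈ Subgroup.normalizer
        ((U ⊔ ((P : Subgroup G) ⊓ stabSub U (U ⊓ W) W) : Subgroup G) : Set G) := by
      apply mem_normalizer_of_cjs_eq
      have e : cjs (s⁻¹ * y) (U ⊔ ((P : Subgroup G) ⊓ stabSub U (U ⊓ W) W)) =
          cjs (s⁻¹ * y) U ⊔ cjs (s⁻¹ * y) ((P : Subgroup G) ⊓ stabSub U (U ⊓ W) W) :=
        Subgroup.map_sup _ _ _
      rw [e, cjs_eq_of_mem_normalizer hy'U, cjs_eq_of_mem_normalizer hy'T]
    have hRP : U ⊔ ((P : Subgroup G) ⊓ stabSub U (U ⊓ W) W) ≤ (P : Subgroup G) :=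
      sup_le hUP inf_le_left
    have hcard : Nat.card U < Nat.card ↥(U ⊔ ((P : Subgroup G) ⊓ stabSub U (U ⊓ W) W)) := by
      by_contra hcon
      push Not at hcon
      have hle : U ≤ U ⊔ ((P : Subgroup G) ⊓ stabSub U (U ⊓ W) W) := le_sup_left
      have heq := Subgroup.eq_of_le_of_card_ge hle hcon
      apply hw₀U
      rw [heq]
      exact Subgroup.mem_sup_right (Subgroup.mem_inf.2 ⟨hWP hw₀W, hw₀K⟩)
    obtain ⟨c', hc', h', hh', hy'⟩ := IH _ hRP hcard (s⁻¹ * y) (by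
      rw [cj_eq_of_mem_normalizer hy'R]; exact hRP)
    refine ⟨o⁻¹ * c', mul_mem (inv_mem hoC) (Subgroup.centralizer_le ?_ hc'), h', hh', ?_⟩
    · exact fun u hu =>
        (le_sup_left : U ≤ U ⊔ ((P : Subgroup G) ⊓ stabSub U (U ⊓ W) W)) hu
    · have hk' : k = o⁻¹ * s⁻¹ := by
        rw [← inv_inv k, hso, mul_inv_rev]
      calc x = o⁻¹ * (s⁻¹ * y) := by rw [hxky, hk', mul_assoc]
        _ = o⁻¹ * c' * h' := by rw [hy', mul_assoc]

end Cfsg.Agent.Helper12
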