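import Cfsg.Agent.Helper12.SecInd
import Cfsg.Agent.Helper1.ZJFus

/-!
Control of strong fusion by `N(Z(J(D)))` for a strongly closed subgroup `D`: the induction
through subgroups and quotients.
-/

set_option autoImplicit false

namespace Cfsg.Agent.Helper12

universe u

section CFam

variable {G : Type*} [Group G]

/-- The constant family. -/
def cFam (Z₀ : Subgroup G) : Set (Subgroup G → Subgroup G) := {fun _ => Z₀}

theorem exists_of_famRel_cFam {Z₀ S : Subgroup G} {A : Set G} {g : G}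
    (h : famRel (cFam Z₀) S A g) :
    ∃ y ∈ Subgroup.normalizer (Z₀ : Set G), ∀ a ∈ A, y⁻¹ * a * y = g⁻¹ * a * g := by
  obtain ⟨hA, hgA, g', hch, hag⟩ := h
  have hfin : cj g' A ⊆ S := by rw [cj_congr hag]; exact hgA
  refine ⟨g', ?_, hag⟩
  refine FChain.rel_of_chain_const (fun _ x => x ∈ Subgroup.normalizer (Z₀ : Set G))
    ?_ ?_ ?_ hch hfin
  · intro _ _; exact one_mem _
  · rintro B t x ⟨W, hW, hx⟩ _ _
    have hW' : W = fun _ => Z₀ := hW
    subst hW'
    exact (Subgroup.mem_inf.1 hx).2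
  · intro _ x y hx hy; exact mul_mem hx hy

theorem famRel_cFam_of {Z₀ S : Subgroup G} {A : Set G} {g y : G}
    (hA : A ⊆ S) (hgA : cj g A ⊆ S) (hy : y ∈ Subgroup.normalizer (Z₀ : Set G))
    (hag : ∀ a ∈ A, y⁻¹ * a * y = g⁻¹ * a * g) : famRel (cFam Z₀) S A g := by
  have hyA : cj y A ⊆ S := by rw [cj_congr hag]; exact hgA
  have hW : (fun _ : Subgroup G => Z₀) ∈ cFam Z₀ := rfl
  exact famRel_congr (famRel_step hA hyA hW hy) hag

end CFam

/-- Control of strong fusion by `N(ZE e D)` for every strongly closed `D`. -/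
def dCtl (p e : ℕ) (Z : Type u) [Group Z] : Prop :=
  ∀ (T : Sylow p Z) (D : Subgroup Z), Cfsg.IsStronglyClosed D (T : Subgroup Z) →
    ∀ (A : Set Z) (g : Z), A ⊆ (T : Subgroup Z) → cj g A ⊆ (T : Subgroup Z) →
      famRel (cFam (Helper1.ZE e D)) (T : Subgroup Z) A g

section DMain

variable {p e : ℕ} [Fact p.Prime]

/-- Control in a subgroup `X` containing the Sylow subgroup `T` of `G`, read in `G`. -/
theorem dCtl_subgroup {G : Type u} [Group G] [Finite G] (X : Subgroup G)
    (hX : dCtl p e ↥X) (T : Sylow p G) (hTX : (T : Subgroup G) ≤ X) (D : Subgroup G)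
    (hD : Cfsg.IsStronglyClosed D (T : Subgroup G)) :
    ∀ (A : Set G) (x : G), x ∈ X → A ⊆ (T : Subgroup G) → cj x A ⊆ (T : Subgroup G) →
      famRel (cFam (Helper1.ZE e D)) (T : Subgroup G) A x := by
  intro A x hx hA hxA
  have hcoe : ((T.subtype hTX : Sylow p ↥X) : Subgroup ↥X) = (T : Subgroup G).subgroupOf X :=
    Sylow.coe_subtype _ _
  have hD' : Cfsg.IsStronglyClosed (D.subgroupOf X)
      ((T.subtype hTX : Sylow p ↥X) : Subgroup ↥X) := by
    rw [hcoe]
    refine ⟨?_, ?_⟩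
    · intro z hz
      rw [Subgroup.mem_subgroupOf] at hz ⊢
      exact hD.1 hz
    · intro z hz g hg
      rw [Subgroup.mem_subgroupOf] at hz hg ⊢
      exact hD.2 _ hz _ hg
  have hA' : (X.subtype ⁻¹' A) ⊆ ((T.subtype hTX : Sylow p ↥X) : Subgroup ↥X) := by
    rw [hcoe]
    intro a ha
    show a ∈ (T : Subgroup G).subgroupOf X
    rw [Subgroup.mem_subgroupOf]
    exact hA ha
  have hxA' : cj (⟨x, hx⟩ : ↥X) (X.subtype ⁻¹' A) ⊆
      ((T.subtype hTX : Sylow p ↥X) : Subgroup ↥X) := by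
    rw [hcoe]
    rintro _ ⟨a, ha, rfl⟩
    show ((⟨x, hx⟩ : ↥X)⁻¹ * a * ⟨x, hx⟩ : ↥X) ∈ (T : Subgroup G).subgroupOf X
    rw [Subgroup.mem_subgroupOf]
    exact hxA ⟨(a : G), ha, rfl⟩
  obtain ⟨y, hy, hya⟩ := exists_of_famRel_cFam
    (hX (T.subtype hTX) (D.subgroupOf X) hD' _ ⟨x, hx⟩ hA' hxA')
  have hDX : D ≤ X := hD.1.trans hTX
  have hZ : Helper1.ZE e D = (Helper1.ZE e (D.subgroupOf X)).map X.subtype := by
    rw [Helper1.ZE_map_subtype, Subgroup.subgroupOf_map_subtype, inf_of_le_left hDX]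
  refine famRel_cFam_of hA hxA (y := (y : G)) ?_ ?_
  · rw [hZ]
    exact Subgroup.le_normalizer_map X.subtype (Subgroup.mem_map_of_mem X.subtype hy)
  · intro a ha
    have h1 := hya ⟨a, hTX (hA ha)⟩ ha
    exact congrArg (fun z : ↥X => (z : G)) h1

/-- Control lifts through the quotient by a normal subgroup of order prime to `p`. -/
theorem dCtl_of_quot_pPrime (he : e = 0 ∨ e = p) {G : Type u} [Group G] [Finite G]
    (K : Subgroup G) [hKn : K.Normal] (hK : (Nat.card K).Coprime p)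
    (hH : dCtl p e (G ⧸ K)) : dCtl p e G := by
  intro T D hD A g hA hgA
  have hfs : Function.Surjective (QuotientGroup.mk' K) := QuotientGroup.mk'_surjective K
  have hker : (Nat.card (QuotientGroup.mk' K).ker).Coprime p := by
    rw [QuotientGroup.ker_mk']; exact hK
  have hDp : IsPGroup p D := T.2.to_le hD.1
  have hinjT : ∀ x ∈ (T : Subgroup G), QuotientGroup.mk' K x = 1 → x = 1 := fun x hx h1 =>
    Helper21.eq_one_of_mem_pgroup_of_mem_coprime T.2 hK hx (Helper1.mk'_eq_one_iff'.mp h1)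
  have hmapZ : Helper1.ZE e (D.map (QuotientGroup.mk' K)) =
      (Helper1.ZE e D).map (QuotientGroup.mk' K) := by
    have h1 := inducedFunctor_map (Helper1.WZ_char p he) (QuotientGroup.mk' K) D hDp
      (fun x hx => hinjT x (hD.1 hx))
    rw [Helper1.inducedFunctor_WZ, Helper1.inducedFunctor_WZ] at h1
    exact h1
  have hD' : Cfsg.IsStronglyClosed (D.map (QuotientGroup.mk' K))
      ((T.mapSurjective hfs : Sylow p (G ⧸ K)) : Subgroup (G ⧸ K)) :=
    ⟨Subgroup.map_mono hD.1,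
      Helper1.stronglyClosed_quot K hK (T : Subgroup G) D T.2 hD.1 hD.2⟩
  have hfA : (QuotientGroup.mk' K) '' A ⊆
      ((T.mapSurjective hfs : Sylow p (G ⧸ K)) : Subgroup (G ⧸ K)) := by
    rintro _ ⟨a, ha, rfl⟩
    exact ⟨a, hA ha, rfl⟩
  have hfgA : cj (QuotientGroup.mk' K g) ((QuotientGroup.mk' K) '' A) ⊆
      ((T.mapSurjective hfs : Sylow p (G ⧸ K)) : Subgroup (G ⧸ K)) := by
    rw [cj_image]
    rintro _ ⟨b, hb, rfl⟩
    exact ⟨b, hgA hb, rfl⟩
  obtain ⟨y', hy', hya'⟩ := exists_of_famRel_cFam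
    (hH (T.mapSurjective hfs) (D.map (QuotientGroup.mk' K)) hD' _ _ hfA hfgA)
  rw [hmapZ] at hy'
  have hZT : Helper1.ZE e D ≤ (T : Subgroup G) :=
    ((Helper1.ZE_le_JE e D).trans (Helper1.JE_le e D)).trans hD.1
  have hTD : (T : Subgroup G) ≤ Subgroup.normalizer (D : Set G) :=
    Helper1.le_normalizer_of_conj_mem _ _ (fun a ha x hx =>
      hD.2 x hx a (mul_mem (mul_mem ha (hD.1 hx)) (inv_mem ha)))
  have hTN : (T : Subgroup G) ≤ Subgroup.normalizer ((Helper1.ZE e D : Subgroup G) : Set G) :=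
    hTD.trans (Helper1.normalizer_le_normalizer_ZE e D)
  have hy'A : cj y' ((QuotientGroup.mk' K) '' A) ⊆
      ((T : Subgroup G).map (QuotientGroup.mk' K) : Subgroup (G ⧸ K)) := by
    rw [cj_congr hya']; exact hfgA
  obtain ⟨y, hy, hyy', hyA⟩ := lift_step (QuotientGroup.mk' K) hfs hker T hZT hTN hA hy' hy'A
  refine famRel_cFam_of hA hgA hy ?_
  intro a ha
  have h1 : y⁻¹ * a * y ∈ (T : Subgroup G) := hyA ⟨a, ha, rfl⟩
  have h2 : g⁻¹ * a * g ∈ (T : Subgroup G) := hgA ⟨a, ha, rfl⟩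
  have h3 : QuotientGroup.mk' K (y⁻¹ * a * y) = QuotientGroup.mk' K (g⁻¹ * a * g) := by
    rw [map_mul, map_mul, map_inv, hyy', hya' _ ⟨a, ha, rfl⟩, map_mul, map_mul, map_inv]
  have h4 : (y⁻¹ * a * y) * (g⁻¹ * a * g)⁻¹ = 1 :=
    hinjT _ (mul_mem h1 (inv_mem h2)) (by rw [map_mul, map_inv, h3, mul_inv_cancel])
  exact mul_inv_eq_one.mp h4

/-- The inductive step for strongly closed subgroups. -/
theorem dfusion_step (he : e = 0 ∨ e = p) {G : Type u} [Group G] [Finite G]
    (hsub : ∀ X : Subgroup G, X ≠ ⊤ → dCtl p e ↥X)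
    (hq1 : Cfsg.pPrimeCore p G ≠ ⊥ → dCtl p e (G ⧸ Cfsg.pPrimeCore p G))
    (hq2 : Cfsg.pCore p G ≠ ⊥ → dCtl p e (G ⧸ Cfsg.pCore p G))
    (hcon : Subgroup.centralizer ((Cfsg.pCore p G : Subgroup G) : Set G) ≤ Cfsg.pCore p G →
      dCtl p e G)
    (hzj : Cfsg.pCore p G = ⊥ → ∀ T : Sylow p G, (T : Subgroup G) ≠ ⊥ →
      ∃ X : Subgroup G, X ≠ ⊤ ∧ (T : Subgroup G) ≤ X ∧
        ∀ (A : Set G) (g : G), A ⊆ (T : Subgroup G) → cj g A ⊆ (T : Subgroup G) →
          ∃ x ∈ X, ∀ a ∈ A, x⁻¹ * a * x = g⁻¹ * a * g) :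
    dCtl p e G := by
  by_cases hO : Cfsg.pPrimeCore p G = ⊥
  swap
  · exact dCtl_of_quot_pPrime he (Cfsg.pPrimeCore p G)
      (Cfsg.Agent.Helper9.pPrimeCore_coprime p) (hq1 hO)
  by_cases hKQ : Subgroup.centralizer ((Cfsg.pCore p G : Subgroup G) : Set G) ≤ Cfsg.pCore p G
  · exact hcon hKQ
  intro T D hD
  have hQp : IsPGroup p (Cfsg.pCore p G) := Cfsg.Agent.Helper9.pCore_isPGroup p
  have hQn : (Cfsg.pCore p G).Normal := inferInstance
  have hQT : Cfsg.pCore p G ≤ (T : Subgroup G) := hQp.le_sylow_of_normal T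
  have hTD : (T : Subgroup G) ≤ Subgroup.normalizer (D : Set G) :=
    Helper1.le_normalizer_of_conj_mem _ _ (fun a ha x hx =>
      hD.2 x hx a (mul_mem (mul_mem ha (hD.1 hx)) (inv_mem ha)))
  by_cases hDQ : D ≤ Cfsg.pCore p G
  · intro A g hA hgA
    have hDn : ∀ z : G, ∀ x ∈ D, z * x * z⁻¹ ∈ D := fun z x hx =>
      hD.2 x hx z (hQT (hQn.conj_mem x (hDQ hx) z))
    have hgN : g ∈ Subgroup.normalizer (D : Set G) := by
      rw [Subgroup.mem_normalizer_iff]
      intro x
      refine ⟨fun hx => hDn g x hx, fun hx => ?_⟩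
      have h1 := hDn g⁻¹ _ hx
      have e1 : g⁻¹ * (g * x * g⁻¹) * g⁻¹⁻¹ = x := by group
      rwa [e1] at h1
    exact famRel_cFam_of hA hgA (Helper1.normalizer_le_normalizer_ZE e D hgN) (fun a _ => rfl)
  have F1 : ∀ X : Subgroup G, X ≠ ⊤ → (T : Subgroup G) ≤ X → ∀ (A : Set G) (x : G), x ∈ X →
      A ⊆ (T : Subgroup G) → cj x A ⊆ (T : Subgroup G) →
      famRel (cFam (Helper1.ZE e D)) (T : Subgroup G) A x :=
    fun X hX hTX => dCtl_subgroup X (hsub X hX) T hTX D hD
  by_cases hQ : Cfsg.pCore p G = ⊥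
  · intro A g hA hgA
    have hTne : (T : Subgroup G) ≠ ⊥ := by
      intro h
      apply hDQ
      rw [hQ, ← h]
      exact hD.1
    obtain ⟨X, hX, hTX, hctl⟩ := hzj hQ T hTne
    obtain ⟨x, hx, hxa⟩ := hctl A g hA hgA
    have hxA : cj x A ⊆ (T : Subgroup G) := by rw [cj_congr hxa]; exact hgA
    exact famRel_congr (F1 X hX hTX A x hx hA hxA) hxa
  have hTKQ : ¬ ((T : Subgroup G) ⊓
      Subgroup.centralizer ((Cfsg.pCore p G : Subgroup G) : Set G) ≤ Cfsg.pCore p G) :=
    fun h => hKQ (centralizer_pCore_le hO T h)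
  have hKn : (Subgroup.centralizer ((Cfsg.pCore p G : Subgroup G) : Set G)).Normal :=
    inferInstance
  have hTtop : (T : Subgroup G) ≠ ⊤ := by
    intro htop
    apply hTKQ
    have hn : (T : Subgroup G).Normal := by rw [htop]; infer_instance
    exact inf_le_left.trans (Cfsg.Agent.Helper9.le_pCore hn T.2)
  have hTKn : Subgroup.normalizer ((((T : Subgroup G) ⊓
      Subgroup.centralizer ((Cfsg.pCore p G : Subgroup G) : Set G) : Subgroup G)) : Set G) ≠ ⊤ := by
    intro htop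
    apply hTKQ
    exact Cfsg.Agent.Helper9.le_pCore (Subgroup.normalizer_eq_top_iff.mp htop)
      (T.2.to_le inf_le_left)
  have Rc : ∀ (A : Set G) (c m : G), c ∈ Subgroup.centralizer A →
      famRel (cFam (Helper1.ZE e D)) (T : Subgroup G) A m →
      famRel (cFam (Helper1.ZE e D)) (T : Subgroup G) A (c * m) := by
    intro A c m hc hR
    apply famRel_congr hR
    intro a ha
    have := Subgroup.mem_centralizer_iff.mp hc a ha
    calc m⁻¹ * a * m = m⁻¹ * (c⁻¹ * (c * a)) * m := by group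
      _ = m⁻¹ * (c⁻¹ * (a * c)) * m := by rw [← this]
      _ = (c * m)⁻¹ * a * (c * m) := by group
  apply ag_induction T (famRel (cFam (Helper1.ZE e D)) (T : Subgroup G))
    (fun A B g h hBA => famRel_mono h hBA) (fun A g h h1 h2 => famRel_comp h1 h2)
    (fun A g h => famRel_symm h) Rc Set.univ
  · intro T' hT'S
    obtain ⟨x, hx1, hx2⟩ := exists_fully_normalized T (T.2.to_le hT'S)
    exact ⟨cjs x T', Set.mem_univ _, hx1, ⟨x, rfl⟩, hx2⟩
  · intro U _ hUT hidx hgood h hh
    have hQU : Cfsg.pCore p G ≤ U := pCore_le_of_goodSub T hUT hgood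
    have hhU : cj h (U : Set G) = U := cj_eq_of_mem_normalizer hh
    by_cases hTK : (T : Subgroup G) ⊔
        Subgroup.centralizer ((Cfsg.pCore p G : Subgroup G) : Set G) = ⊤
    swap
    · obtain ⟨k, hk, hnU, hnN⟩ := exists_mul_mem_normalizer_inf T _ hKn hUT hh
      have h1 : famRel (cFam (Helper1.ZE e D)) (T : Subgroup G) U (h * k) :=
        F1 _ hTKn (le_normalizer_inf_normal _ _) U (h * k) hnN hUT (cj_subset_of_cjs_le hnU)
      have h2 : famRel (cFam (Helper1.ZE e D)) (T : Subgroup G) (cj (h * k) U) k⁻¹ := by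
        refine F1 _ hTK le_sup_left _ k⁻¹ (le_sup_right (a := (T : Subgroup G)) (inv_mem hk))
          (cj_subset_of_cjs_le hnU) ?_
        rw [← cj_mul]
        have e : h * k * k⁻¹ = h := by group
        rw [e, hhU]
        exact hUT
      have h3 := famRel_comp h1 h2
      have e : h * k * k⁻¹ = h := by group
      rw [e] at h3
      exact h3
    · have hTK' : ∀ g : G, ∃ t ∈ (T : Subgroup G),
          ∃ k ∈ Subgroup.centralizer ((Cfsg.pCore p G : Subgroup G) : Set G), g = t * k := by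
        intro g
        have hg : g ∈ (T : Subgroup G) ⊔
            Subgroup.centralizer ((Cfsg.pCore p G : Subgroup G) : Set G) := by
          rw [hTK]; exact Subgroup.mem_top g
        obtain ⟨t, ht, k, hk, htk⟩ := Subgroup.mem_sup_of_normal_right.mp hg
        exact ⟨t, ht, k, hk, htk.symm⟩
      have hπs : Function.Surjective (QuotientGroup.mk' (Cfsg.pCore p G)) :=
        QuotientGroup.mk'_surjective _
      have hTQ : ((T : Subgroup G).map (QuotientGroup.mk' (Cfsg.pCore p G))).comap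
          (QuotientGroup.mk' (Cfsg.pCore p G)) = (T : Subgroup G) := by
        rw [Subgroup.comap_map_eq, QuotientGroup.ker_mk', sup_of_le_left hQT]
      have hfU : (QuotientGroup.mk' (Cfsg.pCore p G)) '' (U : Set G) ⊆
          ((T.mapSurjective hπs : Sylow p (G ⧸ Cfsg.pCore p G)) :
            Subgroup (G ⧸ Cfsg.pCore p G)) := by
        rintro _ ⟨a, ha, rfl⟩
        exact ⟨a, hUT ha, rfl⟩
      have hfhU : cj (QuotientGroup.mk' (Cfsg.pCore p G) h)
          ((QuotientGroup.mk' (Cfsg.pCore p G)) '' (U : Set G)) ⊆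
          ((T.mapSurjective hπs : Sylow p (G ⧸ Cfsg.pCore p G)) :
            Subgroup (G ⧸ Cfsg.pCore p G)) := by
        rw [cj_image, hhU]; exact hfU
      have hD' : Cfsg.IsStronglyClosed (D.map (QuotientGroup.mk' (Cfsg.pCore p G)))
          ((T.mapSurjective hπs : Sylow p (G ⧸ Cfsg.pCore p G)) :
            Subgroup (G ⧸ Cfsg.pCore p G)) := by
        refine ⟨Subgroup.map_mono hD.1, ?_⟩
        rintro _ ⟨x, hx, rfl⟩ gb hgb
        obtain ⟨g₀, rfl⟩ := hπs gb
        have h1 : g₀ * x * g₀⁻¹ ∈ (T : Subgroup G) := by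
          rw [← hTQ, Subgroup.mem_comap, map_mul, map_mul, map_inv]
          exact hgb
        exact ⟨g₀ * x * g₀⁻¹, hD.2 x hx g₀ h1, by rw [map_mul, map_mul, map_inv]⟩
      obtain ⟨g', hg'N, hag⟩ := exists_of_famRel_cFam
        (hq2 hQ (T.mapSurjective hπs) _ hD' _ _ hfU hfhU)
      have hDp' : IsPGroup p (D.map (QuotientGroup.mk' (Cfsg.pCore p G))) :=
        (T.2.to_le hD.1).map _
      have hX : (Subgroup.normalizer ((Helper1.ZE e
          (D.map (QuotientGroup.mk' (Cfsg.pCore p G))) :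
            Subgroup (G ⧸ Cfsg.pCore p G)) : Set (G ⧸ Cfsg.pCore p G))).comap
          (QuotientGroup.mk' (Cfsg.pCore p G)) ≠ ⊤ := by
        intro htop
        have hn : (Helper1.ZE e (D.map (QuotientGroup.mk' (Cfsg.pCore p G)))).Normal := by
          apply Subgroup.normalizer_eq_top_iff.mp
          rw [eq_top_iff]
          intro z _
          obtain ⟨z₀, rfl⟩ := hπs z
          have hz : z₀ ∈ (Subgroup.normalizer ((Helper1.ZE e
              (D.map (QuotientGroup.mk' (Cfsg.pCore p G))) :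
                Subgroup (G ⧸ Cfsg.pCore p G)) : Set (G ⧸ Cfsg.pCore p G))).comap
              (QuotientGroup.mk' (Cfsg.pCore p G)) := by
            rw [htop]; exact Subgroup.mem_top _
          exact hz
        have hZle : Helper1.ZE e (D.map (QuotientGroup.mk' (Cfsg.pCore p G))) ≤
            D.map (QuotientGroup.mk' (Cfsg.pCore p G)) :=
          (Helper1.ZE_le_JE e _).trans (Helper1.JE_le e _)
        have hbot := normal_pGroup_quotient_pCore hn (hDp'.to_le hZle)
        have hDbot : D.map (QuotientGroup.mk' (Cfsg.pCore p G)) = ⊥ := by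
          by_contra hne
          exact Helper1.ZE_ne_bot he _ hDp' hne hbot
        apply hDQ
        have h5 := (Subgroup.map_eq_bot_iff _).mp hDbot
        rwa [QuotientGroup.ker_mk'] at h5
      have hTX : (T : Subgroup G) ≤ (Subgroup.normalizer ((Helper1.ZE e
          (D.map (QuotientGroup.mk' (Cfsg.pCore p G))) :
            Subgroup (G ⧸ Cfsg.pCore p G)) : Set (G ⧸ Cfsg.pCore p G))).comap
          (QuotientGroup.mk' (Cfsg.pCore p G)) := by
        intro t ht
        rw [Subgroup.mem_comap]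
        apply Helper1.normalizer_le_normalizer_ZE e _
        apply Subgroup.le_normalizer_map (QuotientGroup.mk' (Cfsg.pCore p G))
        exact Subgroup.mem_map_of_mem _ (hTD ht)
      obtain ⟨x, hx⟩ := hπs g'
      have hxU' : cj x (U : Set G) ⊆ (T : Subgroup G) := by
        rintro _ ⟨u, hu, rfl⟩
        show x⁻¹ * u * x ∈ (T : Subgroup G)
        rw [← hTQ, Subgroup.mem_comap, map_mul, map_mul, map_inv, hx, hag _ ⟨u, hu, rfl⟩]
        apply hfhU
        exact ⟨QuotientGroup.mk' (Cfsg.pCore p G) u, ⟨u, hu, rfl⟩, rfl⟩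
      have hRx : famRel (cFam (Helper1.ZE e D)) (T : Subgroup G) U x :=
        F1 _ hX hTX U x (by rw [Subgroup.mem_comap, hx]; exact hg'N) hUT hxU'
      have hxu : ∀ u ∈ U, ∃ z ∈ Cfsg.pCore p G, x⁻¹ * u * x = h⁻¹ * u * h * z := by
        intro u hu
        have h3 : QuotientGroup.mk' (Cfsg.pCore p G) (x⁻¹ * u * x) =
            QuotientGroup.mk' (Cfsg.pCore p G) (h⁻¹ * u * h) := by
          rw [map_mul, map_mul, map_inv, hx, hag _ ⟨u, hu, rfl⟩, map_mul, map_mul, map_inv]
        refine ⟨(h⁻¹ * u * h)⁻¹ * (x⁻¹ * u * x), ?_, by group⟩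
        rw [← QuotientGroup.eq_one_iff]
        show QuotientGroup.mk' (Cfsg.pCore p G) ((h⁻¹ * u * h)⁻¹ * (x⁻¹ * u * x)) = 1
        rw [map_mul, map_inv, h3, inv_mul_cancel]
      have hxU : cj x (U : Set G) = U := by
        have hle : cjs x U ≤ U := by
          apply cjs_le_of_cj_subset
          rintro _ ⟨u, hu, rfl⟩
          obtain ⟨z, hz, e⟩ := hxu u hu
          show x⁻¹ * u * x ∈ U
          rw [e]
          refine mul_mem ?_ (hQU hz)
          have : h⁻¹ * u * h ∈ cj h (U : Set G) := conj_mem_cj hu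
          rw [hhU] at this
          exact this
        have := Subgroup.eq_of_le_of_card_ge hle (card_cjs x U).ge
        rw [← coe_cjs, this]
      have hxN : x ∈ Subgroup.normalizer (U : Set G) := mem_normalizer_of_cj_eq hxU
      have hcN : x⁻¹ * h ∈ Subgroup.normalizer (U : Set G) := mul_mem (inv_mem hxN) hh
      have hc : ∀ u ∈ U, (x⁻¹ * h) * u * (x⁻¹ * h)⁻¹ * u⁻¹ ∈ Cfsg.pCore p G := by
        intro u hu
        have hv : h * u * h⁻¹ ∈ U := (Subgroup.mem_normalizer_iff.mp hh u).mp hu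
        obtain ⟨z, hz, e⟩ := hxu _ hv
        have e2 : (x⁻¹ * h) * u * (x⁻¹ * h)⁻¹ * u⁻¹ = u * z * u⁻¹ := by
          have e3 : x⁻¹ * h * u * (x⁻¹ * h)⁻¹ = x⁻¹ * (h * u * h⁻¹) * x := by group
          rw [e3, e]; group
        rw [e2]
        exact hQn.conj_mem z hz u
      obtain ⟨o, ho, u₀, hu₀, hcou⟩ := cstar_le T hTK' hUT hgood hcN hc
      have hRu : famRel (cFam (Helper1.ZE e D)) (T : Subgroup G) U u₀ :=
        F1 (T : Subgroup G) hTtop le_rfl U u₀ (hUT hu₀) hUT
          (by rw [cj_eq_of_mem_normalizer (Subgroup.le_normalizer hu₀)]; exact hUT)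
      have hRc : famRel (cFam (Helper1.ZE e D)) (T : Subgroup G) U (x⁻¹ * h) := by
        rw [hcou]; exact Rc U o u₀ ho hRu
      have hfinal := famRel_comp hRx (by rw [hxU]; exact hRc)
      have e : x * (x⁻¹ * h) = h := by group
      rw [e] at hfinal
      exact hfinal

/-- Control for strongly closed subgroups in all sections, from the sections with
`C(O_p) ≤ O_p` and a proper controlling subgroup when `O_p = 1`. -/
theorem dCtl_of_sections (he : e = 0 ∨ e = p) {G : Type u} [Group G]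
    (hcon : ∀ (Z : Type u) [Group Z] [Finite Z], IsSectionOf Z G →
      Subgroup.centralizer ((Cfsg.pCore p Z : Subgroup Z) : Set Z) ≤ Cfsg.pCore p Z →
      dCtl p e Z)
    (hzj : ∀ (Z : Type u) [Group Z] [Finite Z], IsSectionOf Z G → Cfsg.pCore p Z = ⊥ →
      ∀ T : Sylow p Z, (T : Subgroup Z) ≠ ⊥ → ∃ X : Subgroup Z, X ≠ ⊤ ∧ (T : Subgroup Z) ≤ X ∧
        ∀ (A : Set Z) (g : Z), A ⊆ (T : Subgroup Z) → cj g A ⊆ (T : Subgroup Z) →
          ∃ x ∈ X, ∀ a ∈ A, x⁻¹ * a * x = g⁻¹ * a * g) :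
    ∀ (Z : Type u) [Group Z] [Finite Z], IsSectionOf Z G → dCtl p e Z := by
  have main : ∀ n : ℕ, ∀ (Z : Type u) [Group Z] [Finite Z], Nat.card Z ≤ n →
      IsSectionOf Z G → dCtl p e Z := by
    intro n
    induction n with
    | zero =>
      intro Z _ _ hcard
      have := Nat.card_pos (α := Z)
      omega
    | succ n ih =>
      intro Z _ _ hcard hsec
      apply dfusion_step he
      · intro X hX
        refine ih ↥X ?_ (isSectionOf_subgroup hsec X)
        have h1 : Nat.card ↥X ≠ Nat.card Z := fun h => hX (Subgroup.eq_top_of_card_eq X h)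
        have h2 : Nat.card ↥X ≤ Nat.card Z := Subgroup.card_le_card_group X
        omega
      · intro hO
        refine ih _ ?_ (isSectionOf_quotient hsec _)
        have := card_quotient_lt (Cfsg.pPrimeCore p Z) hO
        omega
      · intro hQ
        refine ih _ ?_ (isSectionOf_quotient hsec _)
        have := card_quotient_lt (Cfsg.pCore p Z) hQ
        omega
      · exact hcon Z hsec
      · exact hzj Z hsec
  intro Z _ _ hsec
  exact main (Nat.card Z) Z le_rfl hsec

end DMain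

end Cfsg.Agent.Helper12
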