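import Cfsg.Agent.Helper12.SCFusion
import Cfsg.Agent.Helper1.QdNps
import Cfsg.Agent.Helper10.FullZJNpc
import Cfsg.Agent.Helper16.DihInvolved

/-!
`Qd(p)`-free groups, `p` odd: `N(Z(J(D)))` controls strong fusion for every strongly closed `D`.
-/

set_option autoImplicit false

namespace Cfsg.Agent.Helper12

universe u

/-- In a `Qd(p)`-free group (`p` odd) `N(ZE e D)` controls strong fusion, for every strongly
closed subgroup `D` of a Sylow `p`-subgroup. -/
theorem dCtl_of_qd_free {G : Type u} [Group G] [Finite G] {p : ℕ} [Fact p.Prime] (hp : p ≠ 2)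
    {e : ℕ} (he : e = 0 ∨ e = p) (hfree : ¬ Cfsg.Involves ↥(Cfsg.qd p) G) : dCtl p e G := by
  have hfreeZ : ∀ (Z : Type u) [Group Z], IsSectionOf Z G →
      ¬ Cfsg.Involves ↥(Cfsg.qd p) Z := by
    intro Z _ hsec hinv
    obtain ⟨K, f, hf⟩ := hsec
    exact hfree (Helper16.involves_of_section K f hf hinv)
  have hW : Cfsg.IsCharPFunctor p (Helper10.WF p) := Helper10.WF_char p
  have h𝓦 : ∀ W' ∈ ({Helper10.WF p} : Set (∀ (Q : Type u) [Group Q], Subgroup Q)),
      Cfsg.IsCharPFunctor p W' := by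
    rintro _ rfl; exact hW
  have h1 : ∀ (K R : Subgroup G) [(R.subgroupOf K).Normal],
      Subgroup.centralizer ((Cfsg.pCore p (↥K ⧸ R.subgroupOf K) :
        Subgroup (↥K ⧸ R.subgroupOf K)) : Set (↥K ⧸ R.subgroupOf K)) ≤
        Cfsg.pCore p (↥K ⧸ R.subgroupOf K) →
        sfCtl p ({Helper10.WF p} : Set (∀ (Q : Type u) [Group Q], Subgroup Q))
          (↥K ⧸ R.subgroupOf K) := by
    intro K R _ hcen T B y hB hyB
    refine famRel_step hB hyB ⟨Helper10.WF p, rfl, rfl⟩ ?_
    have hn : (Helper10.fullZ p (T : Subgroup (↥K ⧸ R.subgroupOf K))).Normal := by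
      refine Helper10.fullZ_normal hp T hcen ?_
      intro V hVn hV a _ hq
      have ha : a ∈ Subgroup.normalizer (V : Set (↥K ⧸ R.subgroupOf K)) := by
        rw [Subgroup.normalizer_eq_top_iff.mpr hVn]; exact Subgroup.mem_top a
      exact Helper1.pstable_of_normalizer V a ha
        (Helper1.nps_of_qd_free hp hfree K R V hV a ha hq)
    show y ∈ Subgroup.normalizer ((Cfsg.inducedFunctor (Helper10.WF p)
      (T : Subgroup (↥K ⧸ R.subgroupOf K)) : Subgroup (↥K ⧸ R.subgroupOf K)) :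
        Set (↥K ⧸ R.subgroupOf K))
    rw [Helper10.inducedFunctor_WF, Subgroup.normalizer_eq_top_iff.mpr hn]
    exact Subgroup.mem_top _
  have h2 := sfCtl_sections_of_hloc h𝓦 h1
  refine dCtl_of_sections he ?_ ?_ G (isSectionOf_self G)
  · intro Z _ _ hsec hcen T D hD A g hA hgA
    have hp' : p.Prime := Fact.out
    have he' : e = 0 ∨ Odd e := he.imp id (fun h => by rw [h]; exact hp'.odd_of_ne_two hp)
    have hn : (Helper1.ZE e D).Normal := by
      refine Helper1.generic_ZJ hp he' T D hD.1 hD.2 hcen ?_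
      intro V hVn hV a _ hq
      exact Helper1.pstab_qd_on hp (hfreeZ Z hsec) V hV a hq
    refine famRel_cFam_of hA hgA (y := g) ?_ (fun a _ => rfl)
    rw [Subgroup.normalizer_eq_top_iff.mpr hn]; exact Subgroup.mem_top _
  · intro Z _ _ hsec hQ T hTne
    have hconj := isConjugacyFunctor_induced (G := Z) hW
    refine ⟨Subgroup.normalizer ((Cfsg.inducedFunctor (Helper10.WF p) (T : Subgroup Z) :
      Subgroup Z) : Set Z), ?_, ?_, ?_⟩
    · intro htop
      have hn := Subgroup.normalizer_eq_top_iff.mp htop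
      have hle := Helper9.le_pCore hn (T.2.to_le (cf_le hconj T.2))
      rw [hQ] at hle
      exact cf_ne_bot hconj T.2 hTne (le_bot_iff.mp hle)
    · exact Subgroup.le_normalizer.trans (cf_normalizer_le hconj T.2)
    · intro A g hA hgA
      obtain ⟨-, -, g', hch, hag⟩ := h2 Z hsec T A g hA hgA
      have hfin : cj g' A ⊆ (T : Subgroup Z) := by
        rw [cj_congr hag]; exact hgA
      refine ⟨g', ?_, hag⟩
      refine FChain.rel_of_chain_const (fun _ x => x ∈ Subgroup.normalizer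
        ((Cfsg.inducedFunctor (Helper10.WF p) (T : Subgroup Z) : Subgroup Z) : Set Z))
        ?_ ?_ ?_ hch hfin
      · intro _ _; exact one_mem _
      · rintro B t x ⟨_, ⟨W', rfl, rfl⟩, hx⟩ _ _
        exact (Subgroup.mem_inf.1 hx).2
      · intro _ x y hx hy; exact mul_mem hx hy

/-- The statement form: `N_G(ZE e D)` controls strong `G`-fusion in `P`. -/
theorem controls_of_qd_free {G : Type u} [Group G] [Finite G] {p : ℕ} [Fact p.Prime]
    (hp : p ≠ 2) {e : ℕ} (he : e = 0 ∨ e = p) (hfree : ¬ Cfsg.Involves ↥(Cfsg.qd p) G)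
    (P : Sylow p G) (D : Subgroup G) (hD : Cfsg.IsStronglyClosed D (P : Subgroup G))
    (A : Set G) (hA : A ⊆ (P : Subgroup G)) :
    Cfsg.ControlsStrongFusionOf (Subgroup.normalizer ((Helper1.ZE e D : Subgroup G) : Set G))
      (P : Subgroup G) A := by
  refine ⟨hA, fun g hg => ?_⟩
  have hgA : cj g⁻¹ A ⊆ ((P : Subgroup G) : Set G) := by rw [cj_inv_eq]; exact hg
  obtain ⟨y, hy, hya⟩ := exists_of_famRel_cFam
    (dCtl_of_qd_free hp he hfree P D hD A g⁻¹ hA hgA)
  refine ⟨y⁻¹, inv_mem hy, fun a ha => ?_⟩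
  have h1 := hya a ha
  rw [inv_inv] at h1 ⊢
  exact h1.symm

end Cfsg.Agent.Helper12
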