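import Cfsg.Agent.Helper12.SCQd
import Cfsg.Agent.Helper26.FusionSolvable
import Cfsg.Agent.Helper26.GroupSaturated

/-!
`Qd(p)`-free groups, `p` odd: the fusion system on a Sylow `p`-subgroup is solvable, through a
chain of strongly closed subgroups with abelian factors built from `Z(J)` of the quotients
`P / R` inside `N_G(R) / R`.
-/

set_option autoImplicit false

namespace Cfsg.Agent.Helper12

universe u

open scoped commutatorElement

section NextSC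

variable {G : Type u} [Group G]

/-- `N_G(R)`. -/
abbrev nrm (R : Subgroup G) : Subgroup G := Subgroup.normalizer (R : Set G)

/-- `R` inside `N_G(R)`. -/
abbrev rsub (R : Subgroup G) : Subgroup ↥(nrm R) := R.subgroupOf (nrm R)

/-- The quotient map `N_G(R) → N_G(R) / R`. -/
abbrev qmap (R : Subgroup G) : ↥(nrm R) →* ↥(nrm R) ⧸ rsub R := QuotientGroup.mk' (rsub R)

/-- The next term of the chain: the preimage of `Z(J(P / R))`. -/
def nxtSC (P R : Subgroup G) : Subgroup G :=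
  ((Helper1.ZE 0 ((P.subgroupOf (nrm R)).map (qmap R))).comap (qmap R)).map (nrm R).subtype

/-- The invariant carried along the chain. -/
def InvSC (P R : Subgroup G) : Prop :=
  R ≤ P ∧ P ≤ nrm R ∧
    ∀ x ∈ P, ∀ g : G, g * x * g⁻¹ ∈ P → ∃ n ∈ nrm R, (n * x * n⁻¹)⁻¹ * (g * x * g⁻¹) ∈ R

theorem nxtSC_step [Finite G] {p : ℕ} [Fact p.Prime] (hp : p ≠ 2)
    (hfree : ¬ Cfsg.Involves ↥(Cfsg.qd p) G) (P : Sylow p G) (R : Subgroup G)
    (hInv : InvSC (P : Subgroup G) R) :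
    InvSC (P : Subgroup G) (nxtSC (P : Subgroup G) R) ∧
      Cfsg.IsStronglyClosed (nxtSC (P : Subgroup G) R) (P : Subgroup G) ∧
      R ≤ nxtSC (P : Subgroup G) R ∧
      ⁅nxtSC (P : Subgroup G) R, nxtSC (P : Subgroup G) R⁆ ≤ R ∧
      (nxtSC (P : Subgroup G) R = R → R = (P : Subgroup G)) := by
  obtain ⟨hRP, hPN, hC⟩ := hInv
  have hπs : Function.Surjective (qmap R) := QuotientGroup.mk'_surjective _
  have hker : ∀ n : ↥(nrm R), qmap R n = 1 ↔ (n : G) ∈ R := by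
    intro n
    rw [← MonoidHom.mem_ker, QuotientGroup.ker_mk']
    exact Subgroup.mem_subgroupOf
  obtain ⟨Pb, hPb⟩ : ∃ Pb : Sylow p (↥(nrm R) ⧸ rsub R),
      (Pb : Subgroup (↥(nrm R) ⧸ rsub R)) = ((P : Subgroup G).subgroupOf (nrm R)).map (qmap R) :=
    ⟨(P.subtype hPN).mapSurjective hπs, rfl⟩
  have hfreeX : ¬ Cfsg.Involves ↥(Cfsg.qd p) (↥(nrm R) ⧸ rsub R) := fun hinv =>
    hfree (Helper16.involves_of_section (nrm R) (qmap R) hπs hinv)
  have hd : dCtl p 0 (↥(nrm R) ⧸ rsub R) := dCtl_of_qd_free hp (Or.inl rfl) hfreeX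
  obtain ⟨Zb, hZb⟩ : ∃ Zb : Subgroup (↥(nrm R) ⧸ rsub R),
      Zb = Helper1.ZE 0 (((P : Subgroup G).subgroupOf (nrm R)).map (qmap R)) := ⟨_, rfl⟩
  have hZbP : Zb ≤ ((P : Subgroup G).subgroupOf (nrm R)).map (qmap R) := by
    rw [hZb]; exact (Helper1.ZE_le_JE 0 _).trans (Helper1.JE_le 0 _)
  have hmem : ∀ y : G, y ∈ nxtSC (P : Subgroup G) R ↔
      ∃ h : y ∈ nrm R, qmap R ⟨y, h⟩ ∈ Zb := by
    intro y
    rw [hZb]
    constructor
    · rintro ⟨n, hn, rfl⟩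
      exact ⟨n.2, hn⟩
    · rintro ⟨h, hy⟩
      exact ⟨⟨y, h⟩, hy, rfl⟩
  have hctl : ∀ xb nb : ↥(nrm R) ⧸ rsub R,
      xb ∈ ((P : Subgroup G).subgroupOf (nrm R)).map (qmap R) →
      nb * xb * nb⁻¹ ∈ ((P : Subgroup G).subgroupOf (nrm R)).map (qmap R) →
      ∃ yb ∈ Subgroup.normalizer (Zb : Set (↥(nrm R) ⧸ rsub R)),
        yb * xb * yb⁻¹ = nb * xb * nb⁻¹ := by
    intro xb nb hxb hnb
    have hA : ({xb} : Set (↥(nrm R) ⧸ rsub R)) ⊆
        ((Pb : Subgroup (↥(nrm R) ⧸ rsub R)) : Set (↥(nrm R) ⧸ rsub R)) := by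
      rw [hPb]
      intro a ha
      rw [Set.mem_singleton_iff] at ha
      rw [ha]
      exact hxb
    have hgA : cj nb⁻¹ ({xb} : Set (↥(nrm R) ⧸ rsub R)) ⊆
        ((Pb : Subgroup (↥(nrm R) ⧸ rsub R)) : Set (↥(nrm R) ⧸ rsub R)) := by
      rw [hPb]
      rintro _ ⟨a, ha, rfl⟩
      rw [Set.mem_singleton_iff] at ha
      rw [ha, inv_inv]
      exact hnb
    have hsc : Cfsg.IsStronglyClosed (Pb : Subgroup (↥(nrm R) ⧸ rsub R))
        (Pb : Subgroup (↥(nrm R) ⧸ rsub R)) := ⟨le_rfl, fun x _ g hg => hg⟩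
    obtain ⟨y, hy, hya⟩ := exists_of_famRel_cFam
      (hd Pb (Pb : Subgroup (↥(nrm R) ⧸ rsub R)) hsc _ nb⁻¹ hA hgA)
    rw [hPb, ← hZb] at hy
    refine ⟨y⁻¹, inv_mem hy, ?_⟩
    have h1 := hya xb (Set.mem_singleton xb)
    rw [inv_inv] at h1 ⊢
    exact h1
  have hRN : R ≤ nrm R := Subgroup.le_normalizer
  have hRle : R ≤ nxtSC (P : Subgroup G) R := by
    intro r hr
    rw [hmem]
    refine ⟨hRN hr, ?_⟩
    rw [(hker ⟨r, hRN hr⟩).mpr hr]
    exact one_mem _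
  have hle : nxtSC (P : Subgroup G) R ≤ (P : Subgroup G) := by
    intro y hy
    rw [hmem] at hy
    obtain ⟨h, hy⟩ := hy
    obtain ⟨t, ht, hty⟩ := hZbP hy
    have h1 : ((t⁻¹ * ⟨y, h⟩ : ↥(nrm R)) : G) ∈ R :=
      (hker _).mp (by rw [map_mul, map_inv, hty, inv_mul_cancel])
    have h2 : (t : G) ∈ (P : Subgroup G) := Subgroup.mem_subgroupOf.mp ht
    have h3 : y = (t : G) * ((t : G)⁻¹ * y) := by group
    rw [h3]
    exact mul_mem h2 (hRP h1)
  have hnxP : ∀ x ∈ (P : Subgroup G), ∀ g : G, g * x * g⁻¹ ∈ (P : Subgroup G) →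
      ∀ n : G, (n * x * n⁻¹)⁻¹ * (g * x * g⁻¹) ∈ R → n * x * n⁻¹ ∈ (P : Subgroup G) := by
    intro x _ g hg n hr
    have e : n * x * n⁻¹ = (g * x * g⁻¹) * ((n * x * n⁻¹)⁻¹ * (g * x * g⁻¹))⁻¹ := by group
    rw [e]
    exact mul_mem hg (inv_mem (hRP hr))
  have hsc : ∀ x ∈ nxtSC (P : Subgroup G) R, ∀ g : G, g * x * g⁻¹ ∈ (P : Subgroup G) →
      g * x * g⁻¹ ∈ nxtSC (P : Subgroup G) R := by
    intro x hx g hg
    obtain ⟨n, hn, hr⟩ := hC x (hle hx) g hg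
    have hnx : n * x * n⁻¹ ∈ (P : Subgroup G) := hnxP x (hle hx) g hg n hr
    rw [hmem] at hx
    obtain ⟨hxN, hxZ⟩ := hx
    have hxb : qmap R ⟨x, hxN⟩ ∈ ((P : Subgroup G).subgroupOf (nrm R)).map (qmap R) :=
      hZbP hxZ
    have hnb : qmap R ⟨n, hn⟩ * qmap R ⟨x, hxN⟩ * (qmap R ⟨n, hn⟩)⁻¹ ∈
        ((P : Subgroup G).subgroupOf (nrm R)).map (qmap R) := by
      refine ⟨⟨n, hn⟩ * ⟨x, hxN⟩ * ⟨n, hn⟩⁻¹, ?_, by rw [map_mul, map_mul, map_inv]⟩
      exact Subgroup.mem_subgroupOf.mpr hnx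
    obtain ⟨yb, hyb, hyx⟩ := hctl _ _ hxb hnb
    have h1 : yb * qmap R ⟨x, hxN⟩ * yb⁻¹ ∈ Zb :=
      (Subgroup.mem_normalizer_iff.mp hyb _).mp hxZ
    rw [hyx] at h1
    have h2 : n * x * n⁻¹ ∈ nxtSC (P : Subgroup G) R := by
      rw [hmem]
      refine ⟨(nrm R).mul_mem ((nrm R).mul_mem hn hxN) ((nrm R).inv_mem hn), ?_⟩
      have e : (⟨n * x * n⁻¹, (nrm R).mul_mem ((nrm R).mul_mem hn hxN)
          ((nrm R).inv_mem hn)⟩ : ↥(nrm R)) = ⟨n, hn⟩ * ⟨x, hxN⟩ * ⟨n, hn⟩⁻¹ := rfl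
      rw [e, map_mul, map_mul, map_inv]
      exact h1
    have e2 : g * x * g⁻¹ = (n * x * n⁻¹) * ((n * x * n⁻¹)⁻¹ * (g * x * g⁻¹)) := by group
    rw [e2]
    exact mul_mem h2 (hRle hr)
  have hcomm : ⁅nxtSC (P : Subgroup G) R, nxtSC (P : Subgroup G) R⁆ ≤ R := by
    rw [Subgroup.commutator_le]
    intro a ha b hb
    rw [hmem] at ha hb
    obtain ⟨haN, haZ⟩ := ha
    obtain ⟨hbN, hbZ⟩ := hb
    have hab : qmap R ⟨a, haN⟩ * qmap R ⟨b, hbN⟩ = qmap R ⟨b, hbN⟩ * qmap R ⟨a, haN⟩ := by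
      rw [hZb] at haZ hbZ
      exact Helper1.ZE_comm 0 _ _ haZ _ hbZ
    have h1 : qmap R (⟨a, haN⟩ * ⟨b, hbN⟩ * ⟨a, haN⟩⁻¹ * ⟨b, hbN⟩⁻¹) = 1 := by
      rw [map_mul, map_mul, map_mul, map_inv, map_inv, hab]
      group
    rw [commutatorElement_def]
    exact (hker _).mp h1
  have hne : nxtSC (P : Subgroup G) R = R → R = (P : Subgroup G) := by
    intro heq
    apply le_antisymm hRP
    have hZbot : Zb = ⊥ := by
      rw [eq_bot_iff]
      intro z hz
      obtain ⟨n, rfl⟩ := hπs z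
      have h1 : (n : G) ∈ nxtSC (P : Subgroup G) R := by
        rw [hmem]; exact ⟨n.2, hz⟩
      rw [heq] at h1
      rw [Subgroup.mem_bot]
      exact (hker n).mpr h1
    have hPbot : ((P : Subgroup G).subgroupOf (nrm R)).map (qmap R) = ⊥ := by
      by_contra hne'
      have hpg : IsPGroup p ↥(((P : Subgroup G).subgroupOf (nrm R)).map (qmap R)) := by
        rw [← hPb]; exact Pb.2
      exact Helper1.ZE_ne_bot (Or.inl rfl) _ hpg hne' (by rw [← hZb]; exact hZbot)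
    intro t ht
    have h1 : qmap R ⟨t, hPN ht⟩ ∈ ((P : Subgroup G).subgroupOf (nrm R)).map (qmap R) :=
      ⟨⟨t, hPN ht⟩, Subgroup.mem_subgroupOf.mpr ht, rfl⟩
    rw [hPbot, Subgroup.mem_bot] at h1
    exact (hker _).mp h1
  have hC' : ∀ x ∈ (P : Subgroup G), ∀ g : G, g * x * g⁻¹ ∈ (P : Subgroup G) →
      ∃ m ∈ nrm (nxtSC (P : Subgroup G) R),
        (m * x * m⁻¹)⁻¹ * (g * x * g⁻¹) ∈ nxtSC (P : Subgroup G) R := by
    intro x hx g hg
    obtain ⟨n, hn, hr⟩ := hC x hx g hg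
    have hnx : n * x * n⁻¹ ∈ (P : Subgroup G) := hnxP x hx g hg n hr
    have hxN : x ∈ nrm R := hPN hx
    have hxb : qmap R ⟨x, hxN⟩ ∈ ((P : Subgroup G).subgroupOf (nrm R)).map (qmap R) :=
      ⟨⟨x, hxN⟩, Subgroup.mem_subgroupOf.mpr hx, rfl⟩
    have hnb : qmap R ⟨n, hn⟩ * qmap R ⟨x, hxN⟩ * (qmap R ⟨n, hn⟩)⁻¹ ∈
        ((P : Subgroup G).subgroupOf (nrm R)).map (qmap R) := by
      refine ⟨⟨n, hn⟩ * ⟨x, hxN⟩ * ⟨n, hn⟩⁻¹, ?_, by rw [map_mul, map_mul, map_inv]⟩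
      exact Subgroup.mem_subgroupOf.mpr hnx
    obtain ⟨yb, hyb, hyx⟩ := hctl _ _ hxb hnb
    obtain ⟨m, rfl⟩ := hπs yb
    refine ⟨(m : G), ?_, ?_⟩
    · have h1 : m ∈ Subgroup.normalizer ((Zb.comap (qmap R) : Subgroup ↥(nrm R)) :
          Set ↥(nrm R)) := by
        rw [← Subgroup.comap_normalizer_eq_of_surjective Zb hπs]
        exact hyb
      have h2 := Subgroup.le_normalizer_map (nrm R).subtype
        (Subgroup.mem_map_of_mem (nrm R).subtype h1)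
      rw [hZb] at h2
      exact h2
    · have h1 : ((((m * ⟨x, hxN⟩ * m⁻¹)⁻¹ * (⟨n, hn⟩ * ⟨x, hxN⟩ * ⟨n, hn⟩⁻¹) : ↥(nrm R))) : G)
          ∈ R := by
        apply (hker _).mp
        simp only [map_mul, map_inv]
        rw [hyx, inv_mul_cancel]
      have e : ((m : G) * x * (m : G)⁻¹)⁻¹ * (g * x * g⁻¹) =
          (((m : G) * x * (m : G)⁻¹)⁻¹ * (n * x * n⁻¹)) *
            ((n * x * n⁻¹)⁻¹ * (g * x * g⁻¹)) := by group
      rw [e]
      exact hRle (mul_mem h1 hr)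
  have hPnorm : (P : Subgroup G) ≤ nrm (nxtSC (P : Subgroup G) R) :=
    Helper1.le_normalizer_of_conj_mem _ _ (fun a ha x hx =>
      hsc x hx a (mul_mem (mul_mem ha (hle hx)) (inv_mem ha)))
  exact ⟨⟨hle, hPnorm, hC'⟩, ⟨hle, hsc⟩, hRle, hcomm, hne⟩

/-- In a `Qd(p)`-free group, `p` odd, the fusion system on a Sylow `p`-subgroup is solvable. -/
theorem solvable_of_qd_free [Finite G] {p : ℕ} [Fact p.Prime] (hp : p ≠ 2)
    (hfree : ¬ Cfsg.Involves ↥(Cfsg.qd p) G) (P : Sylow p G) :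
    (Cfsg.groupFusionSystem (P : Subgroup G)).IsSolvableSystem := by
  rw [Helper26.solvable_iff_chain p P.isPGroup' _ (Helper26.groupFusion_saturated p P)]
  obtain ⟨f, hf⟩ : ∃ f : ℕ → Subgroup G, ∀ i, f i = (nxtSC (P : Subgroup G))^[i] ⊥ :=
    ⟨_, fun _ => rfl⟩
  have hf0 : f 0 = ⊥ := by rw [hf]; rfl
  have hfs : ∀ i, f (i + 1) = nxtSC (P : Subgroup G) (f i) := by
    intro i
    rw [hf, hf, Function.iterate_succ_apply']
  have hbot : nrm (⊥ : Subgroup G) = ⊤ := Subgroup.normalizer_eq_top_iff.mpr inferInstance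
  have hInv : ∀ i, InvSC (P : Subgroup G) (f i) := by
    intro i
    induction i with
    | zero =>
      rw [hf0]
      refine ⟨bot_le, ?_, ?_⟩
      · rw [hbot]; exact le_top
      · intro x _ g _
        refine ⟨g, ?_, ?_⟩
        · rw [hbot]; exact Subgroup.mem_top g
        · rw [inv_mul_cancel]; exact one_mem _
    | succ i ih =>
      rw [hfs]
      exact (nxtSC_step hp hfree P (f i) ih).1
  have hstep := fun i => nxtSC_step hp hfree P (f i) (hInv i)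
  have hmono : ∀ i, f i ≤ f (i + 1) := fun i => by rw [hfs]; exact (hstep i).2.2.1
  have hfP : ∀ i, f i ≤ (P : Subgroup G) := fun i => (hInv i).1
  have hcard : ∀ i, f i = (P : Subgroup G) ∨ i + 1 ≤ Nat.card (f i) := by
    intro i
    induction i with
    | zero =>
      right
      have := Nat.card_pos (α := ↥(f 0))
      omega
    | succ i ih =>
      rcases ih with h | h
      · left
        refine le_antisymm (hfP (i + 1)) ?_
        have h1 := hmono i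
        rw [h] at h1
        exact h1
      · by_cases hP : f (i + 1) = (P : Subgroup G)
        · left; exact hP
        · right
          have hne : f i ≠ f (i + 1) := by
            intro heq
            have h1 : f i = (P : Subgroup G) :=
              (hstep i).2.2.2.2 (by rw [← hfs]; exact heq.symm)
            exact hP (by rw [← heq]; exact h1)
          have hlt : Nat.card (f i) < Nat.card (f (i + 1)) := by
            by_contra hge
            exact hne (Subgroup.eq_of_le_of_card_ge (hmono i) (not_lt.mp hge))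
          omega
  obtain ⟨n, hn⟩ : ∃ n : ℕ, n = Nat.card (P : Subgroup G) := ⟨_, rfl⟩
  have hfn : f n = (P : Subgroup G) := by
    rcases hcard n with h | h
    · exact h
    · have := Subgroup.card_le_of_le (hfP n)
      omega
  have hscl : ∀ i, Cfsg.IsStronglyClosed (f i) (P : Subgroup G) := by
    intro i
    cases i with
    | zero =>
      rw [hf0]
      refine ⟨bot_le, fun x hx g _ => ?_⟩
      rw [Subgroup.mem_bot] at hx ⊢
      rw [hx]; group
    | succ k =>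
      rw [hfs]
      exact (hstep k).2.1
  refine ⟨n, fun i => f i.val, hf0, ?_, ?_, ?_, ?_⟩
  · show f (Fin.last n).val = _
    rw [Fin.val_last]
    exact hfn
  · intro i j hij
    exact monotone_nat_of_le_succ hmono (Fin.le_def.mp hij)
  · intro i
    have hsc := hscl i.val
    refine ⟨hsc.1, ?_⟩
    rintro R hR φ ⟨-, hφP, g, hg⟩ x
    rw [hg]
    apply hsc.2 _ (hR x.2) g
    rw [← hg]
    exact hφP x
  · intro i
    show ⁅f (i.succ).val, f (i.succ).val⁆ ≤ f (Fin.castSucc i).val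
    rw [Fin.val_succ, Fin.val_castSucc, hfs]
    exact (hstep i.val).2.2.2.1

end NextSC

end Cfsg.Agent.Helper12
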