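import Cfsg.Agent.Helper12.AGWP
import Cfsg.Agent.Helper12.TransferWP

/-!
Local-to-global control of transfer by a pair of conjugacy functors `W`, `V` through good
well-placed subgroups.
-/

namespace Cfsg.Agent.Helper12

open scoped commutatorElement

variable {G : Type*} [Group G]

theorem centralizer_cjs (x : G) (T : Subgroup G) :
    Subgroup.centralizer ((cjs x T : Subgroup G) : Set G) =
      cjs x (Subgroup.centralizer (T : Set G)) := by
  ext b
  rw [mem_cjs_iff, Subgroup.mem_centralizer_iff, Subgroup.mem_centralizer_iff]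
  constructor
  · intro h y hy
    have hy' : x⁻¹ * y * x ∈ cjs x T := by
      rw [mem_cjs_iff]
      have e : x * (x⁻¹ * y * x) * x⁻¹ = y := by group
      rw [e]; exact hy
    have h1 := h _ hy'
    calc y * (x * b * x⁻¹) = x * (x⁻¹ * y * x * b) * x⁻¹ := by group
      _ = x * (b * (x⁻¹ * y * x)) * x⁻¹ := by rw [h1]
      _ = x * b * x⁻¹ * y := by group
  · intro h y hy
    have hy' : x * y * x⁻¹ ∈ T := mem_cjs_iff.1 hy
    have h1 := h _ hy'
    calc y * b = x⁻¹ * (x * y * x⁻¹ * (x * b * x⁻¹)) * x := by group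
      _ = x⁻¹ * (x * b * x⁻¹ * (x * y * x⁻¹)) * x := by rw [h1]
      _ = b * y := by group

/-- The product set `A B` is a subgroup when `A` normalizes `B`. -/
theorem exists_subgroup_mul (A B : Subgroup G) (hAB : A ≤ Subgroup.normalizer (B : Set G)) :
    ∃ J : Subgroup G, ∀ x, x ∈ J ↔ ∃ a ∈ A, ∃ b ∈ B, x = a * b := by
  refine ⟨{ carrier := {x | ∃ a ∈ A, ∃ b ∈ B, x = a * b}
            mul_mem' := ?_
            one_mem' := ⟨1, one_mem _, 1, one_mem _, by simp⟩
            inv_mem' := ?_ }, fun x => Iff.rfl⟩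
  · rintro _ _ ⟨a, ha, b, hb, rfl⟩ ⟨a', ha', b', hb', rfl⟩
    refine ⟨a * a', mul_mem ha ha', a'⁻¹ * b * a' * b', mul_mem ?_ hb', by group⟩
    have := (Subgroup.mem_normalizer_iff.1 (hAB (inv_mem ha')) b).1 hb
    simpa using this
  · rintro _ ⟨a, ha, b, hb, rfl⟩
    refine ⟨a⁻¹, inv_mem ha, a * b⁻¹ * a⁻¹, ?_, by group⟩
    exact (Subgroup.mem_normalizer_iff.1 (hAB ha) b⁻¹).1 (inv_mem hb)

/-- The local transfer condition (in the form of an inclusion into the join). -/
def wvT (W V : Subgroup G → Subgroup G) (N Q : Subgroup G) : Prop :=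
  Q ⊓ ⁅N, N⁆ ≤
    (Q ⊓ ⁅N ⊓ Subgroup.normalizer ((W Q : Subgroup G) : Set G),
      N ⊓ Subgroup.normalizer ((W Q : Subgroup G) : Set G)⁆) ⊔
    (Q ⊓ ⁅N ⊓ Subgroup.centralizer ((V Q : Subgroup G) : Set G),
      N ⊓ Subgroup.centralizer ((V Q : Subgroup G) : Set G)⁆)

section

variable {p : ℕ} {W V : Subgroup G → Subgroup G}

theorem wvT_transfer (hW : Cfsg.IsConjugacyFunctor p W) (hV : Cfsg.IsConjugacyFunctor p V)
    {N Q T : Subgroup G} (hQ : IsPGroup p Q) {m : G} (hm : m ∈ N) (hmQ : cjs m Q = T)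
    (h : wvT W V N Q) : wvT W V N T := by
  have hNm : cjs m N = N := cjs_eq_of_mem_normalizer (Subgroup.le_normalizer hm)
  have h1 := cjs_mono (x := m) h
  rw [cjs_inf, cjs_sup, cjs_inf, cjs_inf, cjs_commutator, cjs_commutator, cjs_commutator,
    cjs_inf, cjs_inf, hNm, hmQ, ← normalizer_cjs, ← centralizer_cjs, ← cf_cjs hW hQ,
    ← cf_cjs hV hQ, hmQ] at h1
  exact h1

variable [Finite G] [Fact p.Prime]

/-- One level of the tower. -/
theorem wvT_tower_step (hW : Cfsg.IsConjugacyFunctor p W) (P : Sylow p G)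
    (hWZ : ∀ H : Subgroup G, IsPGroup p ↥H →
      H ⊓ Subgroup.centralizer ((H : Subgroup G) : Set G) ≤ W H)
    (hVmono : ∀ H K : Subgroup G, IsPGroup p ↥H → IsPGroup p ↥K → H ≠ ⊥ → K ≠ ⊥ →
      H ⊓ Subgroup.centralizer ((H : Subgroup G) : Set G) ≤
        K ⊓ Subgroup.centralizer ((K : Subgroup G) : Set G) → V H ≤ V K)
    (hloc : ∀ H : Subgroup G,
      (P : Subgroup G) ⊓ Subgroup.centralizer ((P : Subgroup G) : Set G) ≤ H →
      H ≤ (P : Subgroup G) →
      ¬ p ∣ ((P : Subgroup G) ⊓ Subgroup.normalizer (H : Set G)).relIndex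
        (Subgroup.normalizer (H : Set G)) →
      wvT W V (Subgroup.normalizer (H : Set G))
        ((P : Subgroup G) ⊓ Subgroup.normalizer (H : Set G)))
    (J : Subgroup G)
    (hA : (P : Subgroup G) ⊓ ⁅Subgroup.normalizer ((W (P : Subgroup G) : Subgroup G) : Set G),
      Subgroup.normalizer ((W (P : Subgroup G) : Subgroup G) : Set G)⁆ ≤ J)
    (hB : (P : Subgroup G) ⊓ ⁅Subgroup.centralizer ((V (P : Subgroup G) : Subgroup G) : Set G),
      Subgroup.centralizer ((V (P : Subgroup G) : Subgroup G) : Set G)⁆ ≤ J)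
    {U : Subgroup G} (hU : Cfsg.IsWellPlaced p W (P : Subgroup G) U)
    (hZU : (P : Subgroup G) ⊓ Subgroup.centralizer ((P : Subgroup G) : Set G) ≤ U) (i : ℕ)
    (hnext : tN W (P : Subgroup G) U i ≠ (P : Subgroup G) →
      tN W (P : Subgroup G) U (i + 1) ⊓
        ⁅Subgroup.normalizer ((Cfsg.functorTower W (P : Subgroup G) U (i + 1) : Subgroup G) : Set G),
          Subgroup.normalizer ((Cfsg.functorTower W (P : Subgroup G) U (i + 1) : Subgroup G) :
            Set G)⁆ ≤ J) :
    tN W (P : Subgroup G) U i ⊓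
      ⁅Subgroup.normalizer ((Cfsg.functorTower W (P : Subgroup G) U i : Subgroup G) : Set G),
        Subgroup.normalizer ((Cfsg.functorTower W (P : Subgroup G) U i : Subgroup G) : Set G)⁆ ≤
      J := by
  obtain ⟨hZH, hHP, hZT⟩ := wv_tower_facts hW P hWZ hU.1 hZU i
  have hTP : tN W (P : Subgroup G) U i ≤ (P : Subgroup G) := tN_le W _ U i
  have hTp : IsPGroup p (tN W (P : Subgroup G) U i) := tN_isPGroup P.isPGroup' W U i
  by_cases hbot : tN W (P : Subgroup G) U i = ⊥
  · rw [hbot]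
    exact le_trans inf_le_left bot_le
  have hPne : (P : Subgroup G) ≠ ⊥ := by
    intro h
    apply hbot
    exact le_bot_iff.1 (hTP.trans h.le)
  have hVP : V (P : Subgroup G) ≤ V (tN W (P : Subgroup G) U i) :=
    hVmono _ _ P.isPGroup' hTp hPne hbot hZT
  have h1 : wvT W V
      (Subgroup.normalizer ((Cfsg.functorTower W (P : Subgroup G) U i : Subgroup G) : Set G))
      (tN W (P : Subgroup G) U i) := hloc _ hZH hHP (hU.2 i)
  refine le_trans h1 (sup_le ?_ ?_)
  · by_cases hTi : tN W (P : Subgroup G) U i = (P : Subgroup G)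
    · refine le_trans ?_ hA
      have h2 : Subgroup.normalizer
            ((Cfsg.functorTower W (P : Subgroup G) U i : Subgroup G) : Set G) ⊓
          Subgroup.normalizer ((W (tN W (P : Subgroup G) U i) : Subgroup G) : Set G) ≤
          Subgroup.normalizer ((W (P : Subgroup G) : Subgroup G) : Set G) := by
        rw [hTi]
        exact inf_le_right
      exact inf_le_inf hTP (Subgroup.commutator_mono h2 h2)
    · refine le_trans ?_ (hnext hTi)
      exact inf_le_inf (tN_le_succ hW P.isPGroup' U i)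
        (Subgroup.commutator_mono inf_le_right inf_le_right)
  · refine le_trans ?_ hB
    have h2 : Subgroup.normalizer
          ((Cfsg.functorTower W (P : Subgroup G) U i : Subgroup G) : Set G) ⊓
        Subgroup.centralizer ((V (tN W (P : Subgroup G) U i) : Subgroup G) : Set G) ≤
        Subgroup.centralizer ((V (P : Subgroup G) : Subgroup G) : Set G) :=
      inf_le_right.trans (Subgroup.centralizer_le (SetLike.coe_subset_coe.mpr hVP))
    exact inf_le_inf hTP (Subgroup.commutator_mono h2 h2)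

/-- Local-to-global control of transfer by `W` with `V`: `P ∩ G'` lies in any subgroup `J`
containing `P ∩ N_G(W(P))'` and `P ∩ C_G(V(P))'`. -/
theorem wvT_global (hW : Cfsg.IsConjugacyFunctor p W) (P : Sylow p G)
    (hWZ : ∀ H : Subgroup G, IsPGroup p ↥H →
      H ⊓ Subgroup.centralizer ((H : Subgroup G) : Set G) ≤ W H)
    (hVmono : ∀ H K : Subgroup G, IsPGroup p ↥H → IsPGroup p ↥K → H ≠ ⊥ → K ≠ ⊥ →
      H ⊓ Subgroup.centralizer ((H : Subgroup G) : Set G) ≤
        K ⊓ Subgroup.centralizer ((K : Subgroup G) : Set G) → V H ≤ V K)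
    (hloc : ∀ H : Subgroup G,
      (P : Subgroup G) ⊓ Subgroup.centralizer ((P : Subgroup G) : Set G) ≤ H →
      H ≤ (P : Subgroup G) →
      ¬ p ∣ ((P : Subgroup G) ⊓ Subgroup.normalizer (H : Set G)).relIndex
        (Subgroup.normalizer (H : Set G)) →
      wvT W V (Subgroup.normalizer (H : Set G))
        ((P : Subgroup G) ⊓ Subgroup.normalizer (H : Set G)))
    (J : Subgroup G)
    (hA : (P : Subgroup G) ⊓ ⁅Subgroup.normalizer ((W (P : Subgroup G) : Subgroup G) : Set G),
      Subgroup.normalizer ((W (P : Subgroup G) : Subgroup G) : Set G)⁆ ≤ J)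
    (hB : (P : Subgroup G) ⊓ ⁅Subgroup.centralizer ((V (P : Subgroup G) : Subgroup G) : Set G),
      Subgroup.centralizer ((V (P : Subgroup G) : Subgroup G) : Set G)⁆ ≤ J) :
    (P : Subgroup G) ⊓ ⁅(⊤ : Subgroup G), (⊤ : Subgroup G)⁆ ≤ J := by
  refine le_trans (sylow_inf_commutator_le P J ?_) inf_le_right
  intro a g ha hga
  have main : ∀ (A : Set G) (g : G), A ⊆ (P : Subgroup G) → cj g A ⊆ (P : Subgroup G) →
      ∀ a ∈ A, a⁻¹ * (g⁻¹ * a * g) ∈ J := by
    apply ag_induction P (fun A g => ∀ a ∈ A, a⁻¹ * (g⁻¹ * a * g) ∈ J) ?_ ?_ ?_ ?_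
      {U | Cfsg.IsWellPlaced p W (P : Subgroup G) U}
    · intro T hTS
      obtain ⟨x, hx⟩ := exists_wellPlaced_conj hW P hTS
      exact ⟨cjs x T, hx, hx.1, ⟨x, rfl⟩, hx.2 0⟩
    · intro U hU hUP hidx hgood h hh a ha
      have hZU : (P : Subgroup G) ⊓ Subgroup.centralizer ((P : Subgroup G) : Set G) ≤ U :=
        le_trans (inf_le_inf_left _ (Subgroup.centralizer_le (SetLike.coe_subset_coe.mpr hUP)))
          (goodSub_centralizer_le P hUP hgood)
      obtain ⟨i₀, hi₀⟩ := exists_tN_eq_top hW P.isPGroup' U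
      have key : ∀ k i : ℕ, i₀ ≤ i + k → tN W (P : Subgroup G) U i ⊓
          ⁅Subgroup.normalizer ((Cfsg.functorTower W (P : Subgroup G) U i : Subgroup G) : Set G),
            Subgroup.normalizer ((Cfsg.functorTower W (P : Subgroup G) U i : Subgroup G) :
              Set G)⁆ ≤ J := by
        intro k
        induction k with
        | zero =>
          intro i hi
          apply wvT_tower_step hW P hWZ hVmono hloc J hA hB hU hZU i
          intro hne
          exfalso
          apply hne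
          exact le_antisymm (tN_le W _ U i)
            (hi₀.symm.le.trans (tN_mono hW P.isPGroup' U (by omega)))
        | succ k ih =>
          intro i hi
          apply wvT_tower_step hW P hWZ hVmono hloc J hA hB hU hZU i
          intro _
          exact ih (i + 1) (by omega)
      have h0 := key i₀ 0 (by omega)
      apply h0
      have hxa : h⁻¹ * a * h ∈ U := by
        have := (Subgroup.mem_normalizer_iff.1 (inv_mem hh) a).1 ha
        simpa using this
      have he : a⁻¹ * (h⁻¹ * a * h) = ⁅a⁻¹, h⁻¹⁆ := by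
        rw [commutatorElement_def]; group
      refine Subgroup.mem_inf.2 ⟨le_tN_zero W hUP (mul_mem (inv_mem ha) hxa), ?_⟩
      rw [he]
      exact Subgroup.commutator_mem_commutator (Subgroup.le_normalizer (inv_mem ha)) (inv_mem hh)
    · intro A B g h hBA a ha
      exact h a (hBA ha)
    · intro A g h h1 h2 a ha
      have h3 := h2 _ (conj_mem_cj (x := g) ha)
      have e : a⁻¹ * ((g * h)⁻¹ * a * (g * h)) =
          (a⁻¹ * (g⁻¹ * a * g)) * ((g⁻¹ * a * g)⁻¹ * (h⁻¹ * (g⁻¹ * a * g) * h)) := by group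
      rw [e]
      exact mul_mem (h1 a ha) h3
    · rintro A g h _ ⟨a, ha, rfl⟩
      have h1 := inv_mem (h a ha)
      have e : (g⁻¹ * a * g)⁻¹ * (g⁻¹⁻¹ * (g⁻¹ * a * g) * g⁻¹) = (a⁻¹ * (g⁻¹ * a * g))⁻¹ := by
        group
      rw [e]
      exact h1
    · intro A c m hc h a ha
      have h1 := (Subgroup.mem_centralizer_iff.1 hc) a ha
      have e : a⁻¹ * ((c * m)⁻¹ * a * (c * m)) = a⁻¹ * (m⁻¹ * (c⁻¹ * (a * c)) * m) := by group
      rw [e, h1]
      have e2 : a⁻¹ * (m⁻¹ * (c⁻¹ * (c * a)) * m) = a⁻¹ * (m⁻¹ * a * m) := by group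
      rw [e2]
      exact h a ha
  refine main {a} g (Set.singleton_subset_iff.2 ha) ?_ a rfl
  rintro _ ⟨b, hb, rfl⟩
  rw [Set.mem_singleton_iff.1 hb]
  exact hga

end

end Cfsg.Agent.Helper12
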